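import Groth.Agent.AlgSpFT.Main
import Groth.Agent.AlgSpQC.CohExtBase
import Groth.Agent.AlgSpQC.CohDesc
import Groth.Agent.AlgSpQC.CohMain

/-! Quasi-coherent modules are colimits of their finite type submodules. -/

set_option autoImplicit false
set_option linter.style.haveILetI false
set_option linter.unusedSectionVars false
set_option backward.isDefEq.respectTransparency false
set_option backward.isDefEq.respectTransparency.types false
set_option maxHeartbeats 800000

universe u

open CategoryTheory Limits AlgebraicGeometry Opposite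
open Groth.Agent.AlgSpQC

noncomputable section

namespace Groth.Agent.AlgSpFT

variable {S : Scheme.{u}}

/-- The trivial family on the empty open. -/
def emptyPSub {X : AlgSp.Sp S} {M : AlgSp.ModEt X} (hM : QC M) : PSub M (LO (∅ : Set (AlgSp.Points X))) where
  N E _ _ := ⊥
  mem_res {E E'} g hE hE' hL hL' x _ :=
    mem_of_span_cover hM hE' (n := 0) (Z := fun i => i.elim0) (fun i => i.elim0) (fun i => i.elim0)
      (fun w => (hL' w).elim) _ _ fun i => i.elim0
  gen {E E'} g hE hE' hL hL' := bot_le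

theorem mem_emptyPSub_ext {X : AlgSp.Sp S} {M : AlgSp.ModEt X} (hM : QC M) {E : AlgSp.EtOver X} (x : Sec M E) :
    x ∈ (emptyPSub hM).ext E := fun Z _ hZ hL =>
  mem_of_span_cover hM hZ (n := 0) (Z := fun i => i.elim0) (fun i => i.elim0) (fun i => i.elim0)
    (fun w => (hL w).elim) _ _ fun i => i.elim0

theorem finite_toMod {X : AlgSp.Sp S} {M : AlgSp.ModEt X} (hM : QC M) (A : AffSub M) {E : AlgSp.EtOver X}
    (hE : Aff X E) (h : (A.N E hE).FG) : Module.Finite ((AlgSp.OEt X).obj.obj (op E)) (Sec (A.toMod hM) E) := by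
  haveI : Module.Finite ((AlgSp.OEt X).obj.obj (op E)) (A.N E hE) := Module.Finite.iff_fg.2 h
  let e : A.N E hE ≃ₗ[(AlgSp.OEt X).obj.obj (op E)] Sec (A.toMod hM) E :=
    { toFun := fun x => ⟨x.1, (A.mem_iff hM hE x.1).2 x.2⟩
      invFun := fun x => ⟨x.1, (A.mem_iff hM hE x.1).1 x.2⟩
      left_inv := fun _ => rfl
      right_inv := fun _ => rfl
      map_add' := fun _ _ => rfl
      map_smul' := fun _ _ => rfl }
  exact Module.Finite.equiv e

theorem exists_hom_toMod [QuasiSeparatedSpace ↥S] {X : AlgSp.Sp S} {M N : AlgSp.ModEt X} (hM : QC M) (A : AffSub M) (q : N ⟶ M)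
    (h : ∀ E (hE : Aff X E) (y : Sec N E), (appS q E y) ∈ A.N E hE) :
    ∃ k : N ⟶ A.toMod hM, k ≫ A.ι hM = q := by
  let v : ∀ E, Aff X E → (Sec N E →ₗ[(AlgSp.OEt X).obj.obj (op E)] Sec (A.toMod hM) E) := fun E hE =>
    { toFun := fun y => ⟨appS q E y, (A.mem_iff hM hE _).2 (h E hE y)⟩
      map_add' := fun a b => Subtype.ext (map_add (appS q E) a b)
      map_smul' := fun r a => Subtype.ext (map_smul (appS q E) r a) }
  obtain ⟨k, hk⟩ := exists_hom_of_affine v (fun {A' B} g hA hB x => Subtype.ext (appS_res q g x))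
  refine ⟨k, hom_ext_affine fun E hE y => ?_⟩
  refine (appS_comp k (A.ι hM) E y).trans ?_
  exact congrArg (appS (A.ι hM) E) (hk E hE y)

section

variable [QuasiSeparatedSpace ↥S] (X : AlgSp.Space S) (hqc : AlgSp.IsQuasiCompactSp X.obj)
  (hqs : AlgSp.IsQuasiSeparatedSp X.obj) {M : AlgSp.ModEt X.obj} (hM : QC M)

/-- The finite type quasi-coherent subobjects. -/
def ftProp {X : AlgSp.Sp S} (M : AlgSp.ModEt X) : ObjectProperty (Subobject M) := fun N =>
  (Subobject.underlying.obj N).IsQuasicoherent ∧ (Subobject.underlying.obj N).IsFiniteType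

include hqc hqs hM in
/-- Finitely many sections and finitely many finite type subobjects lie in one finite type subobject. -/
theorem exists_ftSub_ge (R : List (Req M)) (Q : List (ftProp M).FullSubcategory) :
    ∃ N : (ftProp M).FullSubcategory, (∀ r ∈ R, ∃ w, appS N.obj.arrow r.1.1 w = r.2) ∧ ∀ q ∈ Q, q.obj ≤ N.obj := by
  classical
  haveI := ASp.compactSpace_of_isQuasiCompactSp hqc
  obtain ⟨U, p, hU, hp, hps⟩ := ASp.exists_affine_chart X.property
  let E₀ : AlgSp.EtOver X.obj := AlgSp.EtOver.mk p hp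
  have hE₀ : Aff X.obj E₀ := hU
  have hgen : ∀ q : (ftProp M).FullSubcategory,
      ∃ T : Finset (Sec (Subobject.underlying.obj q.obj) E₀), Submodule.span ((AlgSp.OEt X.obj).obj.obj (op E₀)) (T : Set (Sec (Subobject.underlying.obj q.obj) E₀)) = ⊤ := by
    intro q
    haveI := q.property.2
    exact (finite_sec (Subobject.underlying.obj q.obj) ((isQuasicoherent_iff _).1 q.property.1) hE₀).fg_top
  choose T hT using hgen
  obtain ⟨A, hA, -, hAm⟩ := exists_extension X hqc hqs hM isOpen_empty isCompact_empty (emptyPSub hM)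
    (fun _ _ _ => Submodule.fg_bot)
    (R ++ Q.flatMap fun q => (T q).toList.map fun t => ⟨⟨E₀, hE₀⟩, appS q.obj.arrow E₀ t⟩)
    (fun r _ => mem_emptyPSub_ext hM r.2)
  haveI hmono : Mono (A.ι hM) := inferInstance
  let e := Subobject.underlyingIso (A.ι hM)
  have hq : (A.toMod hM).IsQuasicoherent := (isQuasicoherent_iff _).2 (A.qc hM)
  have hft : (A.toMod hM).IsFiniteType := (isFiniteType_iff (A.qc hM)).2 fun E hE => finite_toMod hM A hE (hA E hE)
  have hP : ftProp M (Subobject.mk (A.ι hM)) := by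
    have hqc' : QC (Subobject.underlying.obj (Subobject.mk (A.ι hM))) :=
      BC.of_iso (O := AlgSp.OEt X.obj) e.symm (A.qc hM)
    refine ⟨(isQuasicoherent_iff _).2 hqc', (isFiniteType_iff hqc').2 fun E hE => ?_⟩
    haveI := finite_toMod hM A hE (hA E hE)
    exact Module.Finite.equiv (show Sec (A.toMod hM) E ≃ₗ[(AlgSp.OEt X.obj).obj.obj (op E)] _ from
      ((evalC (AlgSp.OEt X.obj).obj E).mapIso ((SheafOfModules.forget _).mapIso e.symm)).toLinearEquiv)
  refine ⟨⟨_, hP⟩, fun r hr => ?_, fun q hq' => ?_⟩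
  · obtain ⟨w, hw⟩ := (AffSub.range_ι A hM r.1.2).symm.subset
      (hAm r (List.mem_append.2 (Or.inl hr)))
    let w' : Sec (A.toMod hM) r.1.1 := w
    refine ⟨appS e.inv r.1.1 w', ?_⟩
    refine (appS_comp e.inv _ r.1.1 w').symm.trans ?_
    exact (congrArg (fun k => appS k r.1.1 w') (Subobject.underlyingIso_arrow (A.ι hM))).trans hw
  · obtain ⟨k, hk⟩ := exists_hom_toMod hM A q.obj.arrow fun E hE y => by
      obtain ⟨P, t, s, sq⟩ : ∃ (P : Over S) (t : P ⟶ U) (s : P ⟶ E.obj.left),
          IsPullback ((AlgSp.yon S).map t) ((AlgSp.yon S).map s) p E.obj.hom := by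
        obtain ⟨t, ht⟩ := (AlgSp.yon S).map_surjective (hp.1.fst E.obj.hom)
        exact ⟨_, t, hp.1.snd E.obj.hom, ht ▸ hp.1.isPullback E.obj.hom⟩
      let V : AlgSp.EtOver X.obj := AlgSp.EtOver.mk ((AlgSp.yon S).map s ≫ E.obj.hom)
        (ASp.repWith_comp (P := @AlgebraicGeometry.Etale)
          (ASp.repWith_yon_map (P := @AlgebraicGeometry.Etale) (g := s) (hp.2 _ _ _ sq)) E.property)
      let aV : V ⟶ E₀ := AlgSp.EtOver.homMk t sq.w
      let bV : V ⟶ E := AlgSp.EtOver.homMk s rfl
      haveI : Surjective s.left := hps.2 _ _ _ sq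
      haveI := compactSpace_aff hE
      obtain ⟨n, Z, f, hZ, hl, hs⟩ := exists_finite_cover (fun Z => Nonempty (Z ⟶ E₀)) Set.univ isCompact_univ
        fun w (_ : w ∈ (Set.univ : Set E.obj.left.left)) => by
          obtain ⟨v, rfl⟩ := s.left.surjective w
          obtain ⟨O, hO, hvO, -⟩ := exists_isAffineOpen_mem_and_subset (X := V.obj.left.left) (U := ⊤) (x := v) trivial
          exact ⟨openObj V O, openObjHom V O ≫ bV, aff_openObj V hO, ⟨openObjHom V O ≫ aV⟩, ⟨v, hvO⟩, rfl⟩
      let l : ∀ i, Z i ⟶ E₀ := fun i => (hl i).some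
      refine mem_of_span_cover hM hE f hZ (fun w => hs w trivial) _ _ fun i => ?_
      have hy := mem_span_res ((isQuasicoherent_iff _).1 q.property.1) (l i) hE₀ (hZ i) (hT q)
        (resS (Subobject.underlying.obj q.obj) (f i) y)
      show resS M (f i) (appS q.obj.arrow E y) ∈ _
      rw [← appS_res]
      have hsub : ∀ z ∈ Submodule.span ((AlgSp.OEt X.obj).obj.obj (op (Z i)))
          (resS (Subobject.underlying.obj q.obj) (l i) '' (T q : Set (Sec (Subobject.underlying.obj q.obj) E₀))),
          appS q.obj.arrow (Z i) z ∈ A.N (Z i) (hZ i) := by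
        intro z hz
        have : Submodule.map (appS q.obj.arrow (Z i)) (Submodule.span ((AlgSp.OEt X.obj).obj.obj (op (Z i)))
            (resS (Subobject.underlying.obj q.obj) (l i) '' (T q : Set (Sec (Subobject.underlying.obj q.obj) E₀)))) ≤
            A.N (Z i) (hZ i) := by
          rw [Submodule.map_span, Submodule.span_le]
          rintro _ ⟨_, ⟨t, ht, rfl⟩, rfl⟩
          rw [appS_res]
          refine A.mem_res (l i) hE₀ (hZ i) _ (hAm ⟨⟨E₀, hE₀⟩, appS q.obj.arrow E₀ t⟩ (List.mem_append.2 (Or.inr ?_)))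
          exact List.mem_flatMap.2 ⟨q, hq', List.mem_map.2 ⟨t, Finset.mem_toList.2 ht, rfl⟩⟩
        exact this ⟨z, hz, rfl⟩
      exact A.gen (f i) hE (hZ i) (hsub _ hy)
    refine Subobject.le_mk_of_comm k hk

theorem hom_arrow {X : AlgSp.Sp S} {M : AlgSp.ModEt X} {N N' : (ftProp M).FullSubcategory} (g : N ⟶ N') :
    Subobject.underlying.map g.hom ≫ N'.obj.arrow = N.obj.arrow :=
  Subobject.underlying_arrow _

include hqc hqs hM in
/-- A quasi-coherent module is the filtered colimit of its finite type submodules. -/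
theorem isColimit_ftProp (P : ObjectProperty (Subobject M)) (hP : P = ftProp M)
    (ι : P.ι ⋙ Subobject.underlying ⟶ (Functor.const P.FullSubcategory).obj M)
    (hι : ∀ N : P.FullSubcategory, ι.app N = N.obj.arrow) :
    IsFiltered P.FullSubcategory ∧ Nonempty (IsColimit (Cocone.mk M ι)) := by
  subst hP
  have hle : ∀ N₁ N₂ : (ftProp M).FullSubcategory, ∃ (N : (ftProp M).FullSubcategory) (_ : N₁ ⟶ N) (_ : N₂ ⟶ N), True :=
    fun N₁ N₂ => by
      obtain ⟨N, -, h⟩ := exists_ftSub_ge X hqc hqs hM [] [N₁, N₂]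
      exact ⟨N, ObjectProperty.homMk (homOfLE (h N₁ (by simp))), ObjectProperty.homMk (homOfLE (h N₂ (by simp))), trivial⟩
  refine ⟨{ nonempty := ⟨(exists_ftSub_ge X hqc hqs hM [] []).choose⟩
            cocone_objs := hle
            cocone_maps := fun N₁ N₂ f g => ⟨N₂, 𝟙 _, ObjectProperty.hom_ext _ (Subsingleton.elim _ _)⟩ }, ?_⟩
  have hinj : ∀ (N : (ftProp M).FullSubcategory) (E : AlgSp.EtOver X.obj), Function.Injective (appS N.obj.arrow E) :=
    fun N E => injective_app _ E
  have hlegc : ∀ (s : Cocone ((ftProp M).ι ⋙ Subobject.underlying)) {N N' : (ftProp M).FullSubcategory} (g : N ⟶ N')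
      (E : AlgSp.EtOver X.obj) (w : Sec (Subobject.underlying.obj N.obj) E),
      appS (s.ι.app N') E (appS (Subobject.underlying.map g.hom) E w) = appS (s.ι.app N) E w := fun s {N N'} g E w =>
    (appS_comp _ _ E w).symm.trans (congrArg (fun k => appS k E w) (s.w g))
  have hmem : ∀ {N N' : (ftProp M).FullSubcategory} (g : N ⟶ N') (E : AlgSp.EtOver X.obj)
      (w : Sec (Subobject.underlying.obj N.obj) E),
      appS N'.obj.arrow E (appS (Subobject.underlying.map g.hom) E w) = appS N.obj.arrow E w := fun g E w =>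
    (appS_comp _ _ E w).symm.trans (congrArg (fun k => appS k E w) (hom_arrow g))
  have hleq : ∀ (s : Cocone ((ftProp M).ι ⋙ Subobject.underlying)) (N N' : (ftProp M).FullSubcategory)
      (E : AlgSp.EtOver X.obj) (w : Sec (Subobject.underlying.obj N.obj) E) (w' : Sec (Subobject.underlying.obj N'.obj) E),
      appS N.obj.arrow E w = appS N'.obj.arrow E w' → appS (s.ι.app N) E w = appS (s.ι.app N') E w' := by
    intro s N N' E w w' h
    obtain ⟨N'', g, g', -⟩ := hle N N'
    refine (hlegc s g E w).symm.trans (Eq.trans ?_ (hlegc s g' E w'))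
    refine congrArg (appS (s.ι.app N'') E) (hinj N'' E ?_)
    exact (hmem g E w).trans (h.trans (hmem g' E w').symm)
  have hex : ∀ (E : AlgSp.EtOver X.obj) (hE : Aff X.obj E) (x : Sec M E),
      ∃ (N : (ftProp M).FullSubcategory) (w : Sec (Subobject.underlying.obj N.obj) E), appS N.obj.arrow E w = x := by
    intro E hE x
    obtain ⟨N, h, -⟩ := exists_ftSub_ge X hqc hqs hM [⟨⟨E, hE⟩, x⟩] []
    exact ⟨N, h _ (List.mem_singleton_self _)⟩
  choose N w hw using hex
  have hdesc : ∀ s : Cocone ((ftProp M).ι ⋙ Subobject.underlying),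
      ∃ f : M ⟶ s.pt, ∀ E (_ : Aff X.obj E) (N' : (ftProp M).FullSubcategory)
        (w' : Sec (Subobject.underlying.obj N'.obj) E),
        appS f E (appS N'.obj.arrow E w') = appS (s.ι.app N') E w' := fun s => by
    let v : ∀ E, Aff X.obj E → (Sec M E →ₗ[(AlgSp.OEt X.obj).obj.obj (op E)] Sec s.pt E) := fun E hE =>
      { toFun := fun x => appS (s.ι.app (N E hE x)) E (w E hE x)
        map_add' := fun x x' => by
          obtain ⟨N', g, g', -⟩ := hle (N E hE x) (N E hE x')
          have e : appS N'.obj.arrow E (appS (Subobject.underlying.map g.hom) E (w E hE x) +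
              appS (Subobject.underlying.map g'.hom) E (w E hE x')) = x + x' :=
            (map_add (appS N'.obj.arrow E) _ _).trans
              (congrArg₂ (· + ·) ((hmem g E _).trans (hw E hE x)) ((hmem g' E _).trans (hw E hE x')))
          refine (hleq s _ N' E _ _ ((hw E hE _).trans e.symm)).trans ((map_add (appS (s.ι.app N') E) _ _).trans ?_)
          exact congrArg₂ (· + ·) (hlegc s g E _) (hlegc s g' E _)
        map_smul' := fun r x => by
          refine (hleq s _ (N E hE x) E _ (r • w E hE x) ((hw E hE _).trans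
            ((map_smul _ r _).trans (congrArg (r • ·) (hw E hE x))).symm)).trans ?_
          exact map_smul (appS (s.ι.app (N E hE x)) E) r _ }
    obtain ⟨f, hf⟩ := exists_hom_of_affine v (fun {A B} g hA hB x => by
      refine (hleq s _ (N A hA x) B _ (resS _ g (w A hA x))
        ((hw B hB _).trans ((appS_res _ g _).trans (congrArg (resS M g) (hw A hA x))).symm)).trans ?_
      exact appS_res (s.ι.app (N A hA x)) g _)
    exact ⟨f, fun E hE N' w' => (hf E hE _).trans (hleq s _ N' E _ w' (hw E hE _))⟩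
  choose f hf using hdesc
  exact ⟨{
    desc := f
    fac := fun s N' => by
      show ι.app N' ≫ f s = s.ι.app N'
      rw [hι]
      refine hom_ext_affine fun E hE w' => ?_
      exact (appS_comp _ _ E w').trans (hf s E hE N' w')
    uniq := fun s m hm => by
      refine hom_ext_affine fun E hE x => ?_
      rw [← hw E hE x]
      refine Eq.trans ?_ (hf s E hE _ _).symm
      refine (appS_comp (N E hE x).obj.arrow m E _).symm.trans (congrArg (fun k => appS k E (w E hE x)) ?_)
      exact (congrArg (· ≫ m) (hι (N E hE x))).symm.trans (hm (N E hE x)) }⟩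

end

end Groth.Agent.AlgSpFT

end
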