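import Groth.Agent.AlgSpFT.Sub
import Groth.Agent.AlgSpQC.CohExtSpan

/-! Extending finite type submodules from quasi-compact open subspaces. -/

set_option autoImplicit false
set_option linter.style.haveILetI false
set_option linter.unusedSectionVars false
set_option backward.isDefEq.respectTransparency false
set_option backward.isDefEq.respectTransparency.types false
set_option maxHeartbeats 800000

universe u

open CategoryTheory Limits AlgebraicGeometry Opposite
open Groth.Agent.AlgSpQC

noncomputable section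

namespace Groth.Agent.AlgSpFT

variable {S : Scheme.{u}} {X U : AlgSp.Space S} (j : U ⟶ X) (hj : AlgSp.RepWith @IsOpenImmersion j.hom)

include hj in
theorem etale_of_openImm : AlgSp.RepWith @AlgebraicGeometry.Etale j.hom :=
  ASp.repWith_mono (fun _ _ k (hk : IsOpenImmersion k) => inferInstanceAs (AlgebraicGeometry.Etale k)) hj

/-- A section of a restriction, read downstairs. -/
def fromRestr {Y : AlgSp.Sp S} {p : Y ⟶ X.obj} (hp : AlgSp.RepWith @AlgebraicGeometry.Etale p)
    {M : AlgSp.ModEt X.obj} (E' : AlgSp.EtOver Y) (x : Sec ((restrMod hp).obj M) E') :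
    Sec M ((compE hp).obj E') :=
  (show M.val.obj (op ((compE hp).obj E')) from x)

variable (he : AlgSp.RepWith @AlgebraicGeometry.Etale j.hom) {F : AlgSp.ModEt X.obj} {G : AlgSp.ModEt U.obj}
  (g : G ⟶ (restrMod he).obj F)

/-- The image over an object of the open subspace. -/
def img (E' : AlgSp.EtOver U.obj) : Set (Sec F ((compE he).obj E')) :=
  Set.range fun y => fromRestr he E' (appS g E' y)

include hj in
theorem exists_lift (E : AlgSp.EtOver X.obj) (hL : LO (Set.range (AlgSp.Points.map j.hom)) E) :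
    ∃ (E' : AlgSp.EtOver U.obj) (_ : E ⟶ (compE he).obj E'), E'.obj.left = E.obj.left := by
  obtain ⟨l, hl⟩ := ASp.exists_lift_openImm hj E.obj.hom hL
  haveI := AlgSpInd.mono_openImm hj
  refine ⟨AlgSp.EtOver.mk l (AlgSpInd.repWith_of_comp_mono hl E.property),
    AlgSp.EtOver.homMk (𝟙 _) ?_, rfl⟩
  show (AlgSp.yon S).map (𝟙 _) ≫ l ≫ j.hom = E.obj.hom
  rw [CategoryTheory.Functor.map_id, Category.id_comp, hl]

theorem rs_img {A B : AlgSp.EtOver U.obj} (b : B ⟶ A) (y : Sec G A) :
    rs F ((compE he).map b) (fromRestr he A (appS g A y)) = fromRestr he B (appS g B (resS G b y)) := by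
  rw [appS_res]
  rfl

theorem map_img_span {A B : AlgSp.EtOver U.obj} (b : B ⟶ A) (hA : Aff U.obj A) (hB : Aff U.obj B) (hG : QC G)
    {T : Set (Sec G A)} (hT : Submodule.span ((AlgSp.OEt U.obj).obj.obj (op A)) T = ⊤) (y : Sec G B) :
    fromRestr he B (appS g B y) ∈
      sp F ((compE he).map b) ((fun t => fromRestr he A (appS g A t)) '' T) := by
  have h := mem_span_res hG b hA hB hT y
  clear hA hB hG hT
  induction h using Submodule.span_induction with
  | mem z hz =>
    obtain ⟨t, ht, rfl⟩ := hz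
    exact Submodule.subset_span ⟨_, ⟨t, ht, rfl⟩, rs_img j he g b t⟩
  | zero =>
    rw [map_zero]
    exact Submodule.zero_mem _
  | add a c _ _ ha hc =>
    rw [map_add]
    exact Submodule.add_mem _ ha hc
  | smul r a _ ha =>
    rw [map_smul]
    exact Submodule.smul_mem _ r ha

/-- The lifted object. -/
def liftObj (E : AlgSp.EtOver X.obj) (hL : LO (Set.range (AlgSp.Points.map j.hom)) E) : AlgSp.EtOver U.obj :=
  (exists_lift j hj he E hL).choose

/-- The comparison with the lifted object. -/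
def liftHom (E : AlgSp.EtOver X.obj) (hL : LO (Set.range (AlgSp.Points.map j.hom)) E) :
    E ⟶ (compE he).obj (liftObj j hj he E hL) :=
  (exists_lift j hj he E hL).choose_spec.choose

theorem aff_liftObj {E : AlgSp.EtOver X.obj} (hE : Aff X.obj E)
    (hL : LO (Set.range (AlgSp.Points.map j.hom)) E) : Aff U.obj (liftObj j hj he E hL) := by
  have e : (liftObj j hj he E hL).obj.left = E.obj.left := (exists_lift j hj he E hL).choose_spec.choose_spec
  show IsAffine (liftObj j hj he E hL).obj.left.left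
  rw [e]
  exact hE

theorem sp_img_le (hG : QC G) {E : AlgSp.EtOver X.obj} {A B : AlgSp.EtOver U.obj} (hA : Aff U.obj A)
    (hB : Aff U.obj B) (b : B ⟶ A) (cA : E ⟶ (compE he).obj A) (cB : E ⟶ (compE he).obj B)
    (h : cB ≫ (compE he).map b = cA) : sp F cA (img j he g A) = sp F cB (img j he g B) := by
  subst h
  refine le_antisymm (sp_le _ ?_) (sp_le _ ?_)
  · rintro _ ⟨y, rfl⟩
    rw [rs_comp, rs_img]
    exact Submodule.subset_span ⟨_, ⟨_, rfl⟩, rfl⟩
  · rintro _ ⟨y, rfl⟩
    have := sp_res _ cB (map_img_span j he g b hA hB hG (T := Set.univ) (Submodule.span_univ) y)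
    refine Submodule.span_mono (Set.image_mono ?_) this
    rintro _ ⟨t, -, rfl⟩
    exact ⟨t, rfl⟩

theorem sp_img_eq (hG : QC G) {E : AlgSp.EtOver X.obj} (hE : Aff X.obj E)
    (hL : LO (Set.range (AlgSp.Points.map j.hom)) E) {A : AlgSp.EtOver U.obj} (hA : Aff U.obj A)
    (cA : E ⟶ (compE he).obj A) :
    sp F cA (img j he g A) = sp F (liftHom j hj he E hL) (img j he g (liftObj j hj he E hL)) := by
  have e : (liftObj j hj he E hL).obj.left = E.obj.left := (exists_lift j hj he E hL).choose_spec.choose_spec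
  haveI := AlgSpInd.mono_openImm hj
  let B : AlgSp.EtOver U.obj := AlgSp.EtOver.mk ((AlgSp.yon S).map cA.hom.left ≫ A.obj.hom)
    (AlgSpInd.repWith_of_comp_mono (g := E.obj.hom)
      ((Category.assoc _ _ _).trans (AlgSp.EtOver.w cA)) E.property)
  let cB : E ⟶ (compE he).obj B := AlgSp.EtOver.homMk (𝟙 _) (by
    show (AlgSp.yon S).map (𝟙 _) ≫ ((AlgSp.yon S).map cA.hom.left ≫ A.obj.hom) ≫ j.hom = E.obj.hom
    rw [CategoryTheory.Functor.map_id, Category.id_comp, Category.assoc]
    exact AlgSp.EtOver.w cA)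
  have hB : Aff U.obj B := hE
  let L := liftObj j hj he E hL
  let bA : B ⟶ A := AlgSp.EtOver.homMk cA.hom.left rfl
  let bL : B ⟶ L := AlgSp.EtOver.homMk (liftHom j hj he E hL).hom.left (by
    rw [← cancel_mono j.hom]
    show ((AlgSp.yon S).map (liftHom j hj he E hL).hom.left ≫ L.obj.hom) ≫ j.hom =
      ((AlgSp.yon S).map cA.hom.left ≫ A.obj.hom) ≫ j.hom
    rw [Category.assoc, Category.assoc]
    exact (AlgSp.EtOver.w (liftHom j hj he E hL)).trans (AlgSp.EtOver.w cA).symm)
  rw [sp_img_le j he g hG hA hB bA cA cB (AlgSp.EtOver.hom_ext _ _ (Category.id_comp _)),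
    sp_img_le j he g hG (aff_liftObj j hj he hE hL) hB bL (liftHom j hj he E hL) cB
      (AlgSp.EtOver.hom_ext _ _ (Category.id_comp _))]

/-- The family of a submodule of a restriction. -/
def imgPSub (hG : QC G) : PSub F (LO (Set.range (AlgSp.Points.map j.hom))) where
  N E _ hL := sp F (liftHom j hj he E hL) (img j he g (liftObj j hj he E hL))
  mem_res {E E'} k hE hE' hL hL' x hx := by
    rw [← sp_img_eq j hj he g hG hE' hL' (aff_liftObj j hj he hE hL) (k ≫ liftHom j hj he E hL)]
    exact sp_res _ k hx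
  gen {E E'} k hE hE' hL hL' := by
    rw [← sp_img_eq j hj he g hG hE' hL' (aff_liftObj j hj he hE hL) (k ≫ liftHom j hj he E hL)]
    exact sp_comp_le _ k _

theorem imgPSub_ft (hG : QC G) [G.IsFiniteType] : (imgPSub j hj he g hG).FT := by
  intro E hE hL
  let L := liftObj j hj he E hL
  haveI : Module.Finite _ (Sec G L) := finite_sec G hG (aff_liftObj j hj he hE hL)
  obtain ⟨T, hT⟩ := Module.Finite.fg_top (R := (AlgSp.OEt U.obj).obj.obj (op L)) (M := Sec G L)
  have e : (imgPSub j hj he g hG).N E hE hL =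
      sp F (liftHom j hj he E hL) ((fun t => fromRestr he L (appS g L t)) '' (T : Set (Sec G L))) := by
    refine le_antisymm (sp_le _ ?_) (Submodule.span_mono (Set.image_mono ?_))
    · rintro _ ⟨y, rfl⟩
      have h := sp_res _ (liftHom j hj he E hL)
        (map_img_span j he g (𝟙 L) (aff_liftObj j hj he hE hL) (aff_liftObj j hj he hE hL) hG hT y)
      rwa [CategoryTheory.Functor.map_id, Category.comp_id] at h
    · rintro _ ⟨t, -, rfl⟩
      exact ⟨t, rfl⟩
  rw [e]
  exact Submodule.fg_span ((T.finite_toSet.image _).image _)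

include hj in
theorem exists_extend [QuasiSeparatedSpace ↥S] (hqc : AlgSp.IsQuasiCompactSp X.obj)
    (hqs : AlgSp.IsQuasiSeparatedSp X.obj) (hU : AlgSp.IsQuasiCompactSp U.obj) (hF : QC F) (hG : QC G)
    [G.IsFiniteType] [Mono g] :
    ∃ A : AffSub F, (∀ E hE, (A.N E hE).FG) ∧
      ∃ k : G ≅ (restrMod he).obj (A.toMod hF), k.hom ≫ (restrMod he).map (A.ι hF) = g := by
  haveI := ASp.compactSpace_of_isQuasiCompactSp hU
  obtain ⟨A, hA, hag, -⟩ := exists_extension X hqc hqs hF (AlgSpInd.isOpen_range_openImm hj)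
    (isCompact_range (AlgSp.Points.continuous_map j.hom)) (imgPSub j hj he g hG) (imgPSub_ft j hj he g hG) []
    (by simp)
  refine ⟨A, hA, ?_⟩
  have hLc : ∀ E' : AlgSp.EtOver U.obj, LO (Set.range (AlgSp.Points.map j.hom)) ((compE he).obj E') := fun E' e =>
    ⟨AlgSp.Points.ofPt E'.obj.hom e, AlgSp.Points.map_ofPt _ _ _⟩
  have hN : ∀ (E' : AlgSp.EtOver U.obj) (hE' : Aff U.obj E'),
      A.N ((compE he).obj E') hE' = sp F (𝟙 _) (img j he g E') := fun E' hE' =>
    (hag ((compE he).obj E') hE' (hLc E')).trans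
      (sp_img_eq j hj he g hG (E := (compE he).obj E') hE' (hLc E') hE' (𝟙 _)).symm
  have hmem : ∀ (E' : AlgSp.EtOver U.obj) (hE' : Aff U.obj E') (y : Sec G E'),
      A.Mem ((compE he).obj E') (fromRestr he E' (appS g E' y)) := fun E' hE' y =>
    (A.mem_iff hF (E := (compE he).obj E') hE' _).2 (hN E' hE' ▸ Submodule.subset_span ⟨_, ⟨y, rfl⟩, rs_id F _⟩)
  let v : ∀ E', Aff U.obj E' → (Sec G E' →ₗ[(AlgSp.OEt U.obj).obj.obj (op E')] Sec ((restrMod he).obj (A.toMod hF)) E') :=
    fun E' hE' =>
    { toFun := fun y => toRestr he E' ⟨fromRestr he E' (appS g E' y), hmem E' hE' y⟩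
      map_add' := fun a b => Subtype.ext (map_add (appS g E') a b)
      map_smul' := fun r a => Subtype.ext (map_smul (appS g E') r a) }
  obtain ⟨k, hk⟩ := exists_hom_of_affine v (fun {A' B} b hA' hB y => Subtype.ext (appS_res g b y))
  have hkg : k ≫ (restrMod he).map (A.ι hF) = g := hom_ext_affine fun E' hE' y =>
    (appS_comp k _ E' y).trans (congrArg (appS ((restrMod he).map (A.ι hF)) E') (hk E' hE' y))
  have hbij : ∀ E' (hE' : Aff U.obj E'), Function.Bijective (v E' hE') := by
    intro E' hE'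
    refine ⟨fun a b e => injective_app g E' (congrArg Subtype.val e), fun x => ?_⟩
    let x' : Sec (A.toMod hF) ((compE he).obj E') := fromRestr he E' x
    have hx : x'.1 ∈ sp F (𝟙 _) (img j he g E') :=
      hN E' hE' ▸ (A.mem_iff hF (E := (compE he).obj E') hE' _).1 x'.2
    have hex : ∀ z ∈ sp F (𝟙 _) (img j he g E'), ∃ y, fromRestr he E' (appS g E' y) = z := by
      intro z hz
      induction hz using Submodule.span_induction with
      | mem z hz =>
        obtain ⟨_, ⟨y, rfl⟩, rfl⟩ := hz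
        exact ⟨y, (rs_id F _).symm⟩
      | zero => exact ⟨0, by rw [map_zero]; rfl⟩
      | add a b _ _ ha hb =>
        obtain ⟨y, rfl⟩ := ha
        obtain ⟨y', rfl⟩ := hb
        exact ⟨y + y', by rw [map_add]; rfl⟩
      | smul r a _ ha =>
        obtain ⟨y, rfl⟩ := ha
        exact ⟨(show (AlgSp.OEt U.obj).obj.obj (op E') from r) • y, by rw [map_smul]; rfl⟩
    obtain ⟨y, hy⟩ := hex _ hx
    exact ⟨y, Subtype.ext hy⟩
  let w : ∀ E', Aff U.obj E' → (Sec ((restrMod he).obj (A.toMod hF)) E' →ₗ[(AlgSp.OEt U.obj).obj.obj (op E')] Sec G E') :=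
    fun E' hE' => (LinearEquiv.ofBijective (v E' hE') (hbij E' hE')).symm.toLinearMap
  have hvw : ∀ E' (hE' : Aff U.obj E') x, v E' hE' (w E' hE' x) = x := fun E' hE' x =>
    (LinearEquiv.ofBijective (v E' hE') (hbij E' hE')).apply_symm_apply x
  obtain ⟨k', hk'⟩ := exists_hom_of_affine w (fun {A' B} b hA' hB x => (hbij B hB).1 (by
    rw [hvw B hB, ← hk B hB, appS_res, hk A' hA', hvw A' hA']))
  exact ⟨{ hom := k, inv := k'
           hom_inv_id := hom_ext_affine fun E' hE' y => (appS_comp k k' E' y).trans (by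
             rw [hk' E' hE', hk E' hE']
             exact (LinearEquiv.ofBijective (v E' hE') (hbij E' hE')).symm_apply_apply y)
           inv_hom_id := hom_ext_affine fun E' hE' x => (appS_comp k' k E' x).trans (by
             rw [hk' E' hE', hk E' hE', hvw E' hE']
             rfl) }, hkg⟩

end Groth.Agent.AlgSpFT

end
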