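import Groth.Agent.AlgSpFT.Local

/-! Spans of restrictions of sections. -/

set_option autoImplicit false
set_option linter.style.haveILetI false
set_option linter.unusedSectionVars false
set_option backward.isDefEq.respectTransparency false
set_option backward.isDefEq.respectTransparency.types false
set_option maxHeartbeats 800000

universe u

open CategoryTheory Limits AlgebraicGeometry Opposite TensorProduct
open Groth.Agent.AlgSpQC

noncomputable section

namespace Groth.Agent.AlgSpFT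

variable {S : Scheme.{u}} {X : AlgSp.Sp S} (M : AlgSp.ModEt X)

/-- Restriction of sections. -/
abbrev rs {E E' : AlgSp.EtOver X} (g : E' ⟶ E) (x : Sec M E) : Sec M E' :=
  res (O := (AlgSp.OEt X).obj) M.val g x

theorem rs_comp {E E' E'' : AlgSp.EtOver X} (g : E' ⟶ E) (h : E'' ⟶ E') (x : Sec M E) :
    rs M (h ≫ g) x = rs M h (rs M g x) := res_comp M.val g h x

theorem rs_id {E : AlgSp.EtOver X} (x : Sec M E) : rs M (𝟙 E) x = x := res_id M.val x

/-- The span of the restrictions. -/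
abbrev sp {E E' : AlgSp.EtOver X} (g : E' ⟶ E) (G : Set (Sec M E)) :
    Submodule ((AlgSp.OEt X).obj.obj (op E')) (Sec M E') :=
  Submodule.span ((AlgSp.OEt X).obj.obj (op E')) (rs M g '' G)

variable {M}

theorem sp_res {E E' E'' : AlgSp.EtOver X} (g : E' ⟶ E) (h : E'' ⟶ E') {G : Set (Sec M E)} {x : Sec M E'}
    (hx : x ∈ sp M g G) : rs M h x ∈ sp M (h ≫ g) G := by
  induction hx using Submodule.span_induction with
  | mem z hz => obtain ⟨w, hw, rfl⟩ := hz; exact Submodule.subset_span ⟨w, hw, rs_comp M g h w⟩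
  | zero =>
    rw [show rs M h (0 : Sec M E') = 0 from map_zero (M.val.presheaf.map h.op).hom]
    exact Submodule.zero_mem _
  | add a b _ _ ha hb =>
    rw [show rs M h (a + b) = rs M h a + rs M h b from map_add (M.val.presheaf.map h.op).hom a b]
    exact Submodule.add_mem _ ha hb
  | smul r a _ ha =>
    rw [show rs M h (r • a) = _ from M.val.map_smul h.op r a]
    exact Submodule.smul_mem _ _ ha

theorem sp_comp_le {E E' E'' : AlgSp.EtOver X} (g : E' ⟶ E) (h : E'' ⟶ E') (G : Set (Sec M E)) :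
    sp M (h ≫ g) G ≤ sp M h (sp M g G : Set (Sec M E')) := by
  refine Submodule.span_le.2 ?_
  rintro _ ⟨w, hw, rfl⟩
  exact Submodule.subset_span ⟨rs M g w, Submodule.subset_span ⟨w, hw, rfl⟩, (rs_comp M g h w).symm⟩

theorem sp_le {E E' : AlgSp.EtOver X} (g : E' ⟶ E) {G : Set (Sec M E)}
    {P : Submodule ((AlgSp.OEt X).obj.obj (op E')) (Sec M E')} (h : ∀ x ∈ G, rs M g x ∈ P) : sp M g G ≤ P :=
  Submodule.span_le.2 (by rintro _ ⟨w, hw, rfl⟩; exact h w hw)

theorem range_of_span {E E' : AlgSp.EtOver X} (g : E' ⟶ E)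
    (P : Submodule ((AlgSp.OEt X).obj.obj (op E)) (Sec M E)) :
    letI := (rh (AlgSp.OEt X).obj g).toAlgebra
    ∀ y ∈ sp M g (P : Set (Sec M E)), ∃ w : (AlgSp.OEt X).obj.obj (op E') ⊗[(AlgSp.OEt X).obj.obj (op E)] P,
      (θ (AlgSp.OEt X).obj g).app M.val (P.subtype.lTensor _ w) = y := by
  letI := (rh (AlgSp.OEt X).obj g).toAlgebra
  let θ' := ((θ (AlgSp.OEt X).obj g).app M.val).hom
  intro y hy
  induction hy using Submodule.span_induction with
  | mem y hy =>
    obtain ⟨x, hx, rfl⟩ := hy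
    refine ⟨1 ⊗ₜ ⟨x, hx⟩, ?_⟩
    rw [LinearMap.lTensor_tmul]
    exact (θ_tmul (O := (AlgSp.OEt X).obj) M.val g 1 x).trans (one_smul _ _)
  | zero => exact ⟨0, by rw [map_zero]; exact map_zero θ'⟩
  | add a b _ _ ha hb =>
    obtain ⟨w, rfl⟩ := ha
    obtain ⟨v, rfl⟩ := hb
    exact ⟨w + v, by rw [map_add]; exact map_add θ' _ _⟩
  | smul r a hmem ha =>
    obtain ⟨w, rfl⟩ := ha
    clear hmem
    refine ⟨r • w, ?_⟩
    refine Eq.trans (congrArg θ' ?_) (θ'.map_smul r (P.subtype.lTensor _ w))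
    induction w using TensorProduct.induction_on with
    | zero =>
      rw [smul_zero, map_zero]
      exact (smul_zero r).symm
    | tmul s x => rfl
    | add a b ha hb =>
      rw [smul_add, map_add, map_add, ha, hb]
      exact (smul_add r _ _).symm

theorem mem_of_span_cover (hM : QC M) {E : AlgSp.EtOver X} (hE : Aff X E) {n : ℕ} {Z : Fin n → AlgSp.EtOver X}
    (f : ∀ i, Z i ⟶ E) (hZ : ∀ i, Aff X (Z i))
    (hs : ∀ w : E.obj.left.left, ∃ (i : Fin n) (v : (Z i).obj.left.left), (f i).hom.left.left v = w)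
    (P : Submodule ((AlgSp.OEt X).obj.obj (op E)) (Sec M E))
    (x : Sec M E) (hx : ∀ i, rs M (f i) x ∈ sp M (f i) (P : Set (Sec M E))) : x ∈ P := by
  let R := (AlgSp.OEt X).obj.obj (op E)
  let B := fun i : ULift.{u + 1} (Fin n) => ((AlgSp.OEt X).obj.obj (op (Z i.down)) : Type (u + 1))
  letI : ∀ i, Algebra R (B i) := fun i => (rh (AlgSp.OEt X).obj (f i.down)).toAlgebra
  haveI : Module.FaithfullyFlat R (∀ i, B i) :=
    faithfullyFlat_family (f := f) (affSite X) hE hZ (exists_prime_lift hE f hs)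
  refine AffSub.local_aux P B x fun i => ?_
  obtain ⟨w, hw⟩ := range_of_span (f i.down) P _ (hx i.down)
  refine ⟨w, (hM.bijective (f i.down) hE (hZ _)).1 (hw.trans ?_)⟩
  exact ((θ_tmul (O := (AlgSp.OEt X).obj) M.val (f i.down) 1 x).trans (one_smul _ _)).symm

theorem exists_finset_of_fg_le {E E' : AlgSp.EtOver X} (g : E' ⟶ E)
    {P : Submodule ((AlgSp.OEt X).obj.obj (op E)) (Sec M E)}
    {N : Submodule ((AlgSp.OEt X).obj.obj (op E')) (Sec M E')} (hN : N.FG)
    (h : N ≤ sp M g (P : Set (Sec M E))) :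
    ∃ F : Finset (Sec M E), (∀ x ∈ F, x ∈ P) ∧ N ≤ sp M g (F : Set (Sec M E)) := by
  classical
  obtain ⟨G, hG⟩ := hN
  have key : ∀ y ∈ sp M g (P : Set (Sec M E)),
      ∃ F : Finset (Sec M E), (∀ x ∈ F, x ∈ P) ∧ y ∈ sp M g (F : Set (Sec M E)) := by
    intro y hy
    induction hy using Submodule.span_induction with
    | mem z hz =>
      obtain ⟨x, hx, rfl⟩ := hz
      exact ⟨{x}, fun w hw => by rw [Finset.mem_singleton] at hw; exact hw ▸ hx,
        Submodule.subset_span ⟨x, by simp, rfl⟩⟩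
    | zero => exact ⟨∅, by simp, Submodule.zero_mem _⟩
    | add a b _ _ ha hb =>
      obtain ⟨F₁, h₁, e₁⟩ := ha
      obtain ⟨F₂, h₂, e₂⟩ := hb
      exact ⟨F₁ ∪ F₂, fun x hx => (Finset.mem_union.1 hx).elim (h₁ x) (h₂ x),
        Submodule.add_mem _ (Submodule.span_mono (Set.image_mono (by simp)) e₁)
          (Submodule.span_mono (Set.image_mono (by simp)) e₂)⟩
    | smul r a _ ha =>
      obtain ⟨F, h, e⟩ := ha
      exact ⟨F, h, Submodule.smul_mem _ _ e⟩
  choose F hF hFy using fun y : G => key y.1 (h (hG ▸ Submodule.subset_span y.2))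
  refine ⟨Finset.univ.biUnion F, fun x hx => ?_, ?_⟩
  · obtain ⟨y, -, hy⟩ := Finset.mem_biUnion.1 hx
    exact hF y x hy
  · rw [← hG, Submodule.span_le]
    intro y hy
    refine Submodule.span_mono (Set.image_mono ?_) (hFy ⟨y, hy⟩)
    exact fun x hx => Finset.mem_biUnion.2 ⟨⟨y, hy⟩, Finset.mem_univ _, hx⟩

end Groth.Agent.AlgSpFT

end
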