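import Mathlib

/-! Intersections of preimages commute with flat base change. -/

set_option autoImplicit false
universe u

namespace Groth.Agent.AlgSpFT

open TensorProduct

theorem exists_iInf_comap_lift {R B M : Type u} [CommRing R] [CommRing B] [Algebra R B] [Module.Flat R B]
    [AddCommGroup M] [Module R M] {ι : Type} [Fintype ι] [DecidableEq ι] (Mi : ι → Type u)
    [∀ i, AddCommGroup (Mi i)] [∀ i, Module R (Mi i)] (Ni : ∀ i, Submodule R (Mi i))
    (r : ∀ i, M →ₗ[R] Mi i) (z : B ⊗[R] M)
    (h : ∀ i, (r i).lTensor B z ∈ LinearMap.range ((Ni i).subtype.lTensor B)) :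
    z ∈ LinearMap.range ((⨅ i, (Ni i).comap (r i)).subtype.lTensor B) := by
  let f : M →ₗ[R] ((i : ι) → Mi i ⧸ Ni i) := LinearMap.pi fun i => (Ni i).mkQ.comp (r i)
  let P := ⨅ i, (Ni i).comap (r i)
  have hP : LinearMap.range P.subtype = LinearMap.ker f := by
    rw [Submodule.range_subtype, LinearMap.ker_pi]
    simp only [P, LinearMap.ker_comp, Submodule.ker_mkQ]
  refine (Module.Flat.lTensor_exact B (LinearMap.exact_iff.2 hP.symm) z).1 ?_
  apply (TensorProduct.piRight R R B (fun i => Mi i ⧸ Ni i)).injective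
  rw [map_zero]
  funext i
  have h1 : (TensorProduct.piRight R R B (fun i => Mi i ⧸ Ni i)) (f.lTensor B z) i =
      (Ni i).mkQ.lTensor B ((r i).lTensor B z) := by
    clear h
    induction z using TensorProduct.induction_on with
    | zero => simp
    | tmul b x => simp [f]
    | add a b ha hb => simp only [map_add, Pi.add_apply, ha, hb]
  obtain ⟨w, hw⟩ := h i
  rw [h1, ← hw, ← LinearMap.comp_apply, ← LinearMap.lTensor_comp,
    show (Ni i).mkQ.comp (Ni i).subtype = 0 by ext y; simp, LinearMap.lTensor_zero, LinearMap.zero_apply]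
  rfl

end Groth.Agent.AlgSpFT
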