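import Groth.Agent.AlgSpFT.Local
import Groth.Agent.AlgSpInd.Chain
import Groth.Agent.ElemSqLib.Main
import Groth.Agent.AlgSpMV.Site
import Groth.Agent.S9920

/-! Coverings adapted to an elementary distinguished square. -/

set_option autoImplicit false
set_option linter.style.haveILetI false
set_option backward.isDefEq.respectTransparency false
set_option backward.isDefEq.respectTransparency.types false

universe u

open CategoryTheory Limits AlgebraicGeometry Opposite
open Groth.Agent.AlgSpQC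

noncomputable section

namespace Groth.Agent.AlgSpFT

variable {S : Scheme.{u}}

/-- The objects over an open set of points. -/
def LO {X : AlgSp.Sp S} (O : Set (AlgSp.Points X)) (E : AlgSp.EtOver X) : Prop :=
  ∀ e : E.obj.left.left, AlgSp.Points.ofPt E.obj.hom e ∈ O

theorem LO_down {X : AlgSp.Sp S} (O : Set (AlgSp.Points X)) {A B : AlgSp.EtOver X} (g : B ⟶ A) (h : LO O A) :
    LO O B := fun b => by
  rw [← AlgSp.EtOver.w g, ASp.ofPt_yon_map_comp]
  exact h _

variable {X : AlgSp.Sp S}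

/-- An open subscheme of an object. -/
def openObj (E : AlgSp.EtOver X) (U : E.obj.left.left.Opens) : AlgSp.EtOver X :=
  AlgSp.EtOver.mk ((AlgSp.yon S).map (Over.homMk U.ι rfl : Over.mk (U.ι ≫ E.obj.left.hom) ⟶ E.obj.left) ≫ E.obj.hom)
    (ASp.repWith_comp (P := @AlgebraicGeometry.Etale) (ASp.repWith_yon_map (P := @AlgebraicGeometry.Etale)
      (g := (Over.homMk U.ι rfl : Over.mk (U.ι ≫ E.obj.left.hom) ⟶ E.obj.left))
      (inferInstanceAs (AlgebraicGeometry.Etale U.ι))) E.property)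

/-- The inclusion of an open subscheme of an object. -/
def openObjHom (E : AlgSp.EtOver X) (U : E.obj.left.left.Opens) : openObj E U ⟶ E :=
  AlgSp.EtOver.homMk (Over.homMk U.ι rfl) rfl

theorem aff_openObj (E : AlgSp.EtOver X) {U : E.obj.left.left.Opens} (h : IsAffineOpen U) : Aff X (openObj E U) := h

theorem compactSpace_aff {E : AlgSp.EtOver X} (hE : Aff X E) : CompactSpace E.obj.left.left :=
  haveI : IsAffine E.obj.left.left := hE
  inferInstance

/-- Points of a chart near which two morphisms to an object agree form a neighbourhood of the points where they agree. -/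
theorem exists_nhd_eq {Z T : AlgSp.EtOver X} (k₁ k₂ : Z ⟶ T) (z : Z.obj.left.left)
    (h : Z.obj.left.left.fromSpecResidueField z ≫ k₁.hom.left.left =
      Z.obj.left.left.fromSpecResidueField z ≫ k₂.hom.left.left) :
    ∃ U : Z.obj.left.left.Opens, IsAffineOpen U ∧ z ∈ U ∧ openObjHom Z U ≫ k₁ = openObjHom Z U ≫ k₂ := by
  let p₁ : T ⨯ T ⟶ T := Limits.prod.fst
  let a : Z ⟶ T ⨯ T := prod.lift k₁ k₁
  let b : Z ⟶ T ⨯ T := prod.lift k₁ k₂
  have hab : a.hom.left.left ≫ p₁.hom.left.left = b.hom.left.left ≫ p₁.hom.left.left := by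
    have := congrArg (fun k : Z ⟶ T => k.hom.left.left)
      ((prod.lift_fst k₁ k₁).trans (prod.lift_fst k₁ k₂).symm)
    exact this
  haveI : AlgebraicGeometry.Etale p₁.hom.left.left := AlgSp.EtOver.etale_left p₁
  let c : Z.obj.left.left ⟶ pullback p₁.hom.left.left p₁.hom.left.left := pullback.lift _ _ hab
  let δ := pullback.diagonal p₁.hom.left.left
  haveI : IsOpenImmersion δ := inferInstance
  let U₀ : Z.obj.left.left.Opens := c ⁻¹ᵁ δ.opensRange
  have hz : z ∈ U₀ := by
    let Q : Over S := Over.mk (Z.obj.left.left.fromSpecResidueField z ≫ Z.obj.left.hom)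
    let q : Q ⟶ Z.obj.left := Over.homMk (Z.obj.left.left.fromSpecResidueField z) rfl
    let Qe : (AlgSp.yon S).obj Q ⟶ X := (AlgSp.yon S).map q ≫ Z.obj.hom
    have e : q ≫ a.hom.left = q ≫ b.hom.left := by
      refine AlgSpMV.eq_of_proj T T _ _ ?_ ?_
      · rw [Category.assoc, Category.assoc]
        exact congrArg (fun k : Z ⟶ T => q ≫ k.hom.left)
          ((prod.lift_fst k₁ k₁).trans (prod.lift_fst k₁ k₂).symm)
      · rw [Category.assoc, Category.assoc]
        refine (congrArg (fun k : Z ⟶ T => q ≫ k.hom.left) (prod.lift_snd k₁ k₁)).trans ?_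
        refine Eq.trans ?_ (congrArg (fun k : Z ⟶ T => q ≫ k.hom.left) (prod.lift_snd k₁ k₂)).symm
        exact Over.OverMorphism.ext h
    have e' : Z.obj.left.left.fromSpecResidueField z ≫ c =
        (Z.obj.left.left.fromSpecResidueField z ≫ a.hom.left.left) ≫ δ := by
      refine pullback.hom_ext ?_ ?_
      · simp [c, δ]
      · simp only [c, δ, Category.assoc, pullback.lift_snd, pullback.diagonal_snd, Category.comp_id]
        exact (congrArg CommaMorphism.left e).symm
    refine ⟨a.hom.left.left (Z.obj.left.left.fromSpecResidueField z (IsLocalRing.closedPoint _)), ?_⟩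
    have := congrArg (fun m => m (IsLocalRing.closedPoint (Z.obj.left.left.residueField z))) e'
    simp only [Scheme.Hom.comp_apply, Scheme.fromSpecResidueField_apply] at this ⊢
    exact this.symm
  obtain ⟨U, hU, hzU, hle⟩ := exists_isAffineOpen_mem_and_subset (U := U₀) hz
  refine ⟨U, hU, hzU, ?_⟩
  have hr : Set.range (U.ι ≫ c) ⊆ Set.range δ := by
    rintro _ ⟨w, rfl⟩
    exact hle w.2
  have key : U.ι ≫ a.hom.left.left = U.ι ≫ b.hom.left.left := by
    have hl := IsOpenImmersion.lift_fac δ (U.ι ≫ c) hr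
    have h1 := congrArg (· ≫ pullback.fst p₁.hom.left.left p₁.hom.left.left) hl
    have h2 := congrArg (· ≫ pullback.snd p₁.hom.left.left p₁.hom.left.left) hl
    simp only [δ, c, Category.assoc, pullback.diagonal_fst, pullback.diagonal_snd, Category.comp_id,
      pullback.lift_fst, pullback.lift_snd] at h1 h2
    exact h1.symm.trans h2
  have key' : openObjHom Z U ≫ a = openObjHom Z U ≫ b :=
    AlgSp.EtOver.hom_ext _ _ (Over.OverMorphism.ext key)
  have := congrArg (· ≫ (Limits.prod.snd : T ⨯ T ⟶ T)) key'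
  simpa [a, b] using this

/-- A finite affine covering family of an object from a property of affine neighbourhoods. -/
theorem exists_finite_cover {E : AlgSp.EtOver X} (P : AlgSp.EtOver X → Prop) (Q : Set E.obj.left.left)
    (hQ : IsCompact Q)
    (h : ∀ e ∈ Q, ∃ (V : AlgSp.EtOver X) (a : V ⟶ E), Aff X V ∧ P V ∧ e ∈ Set.range a.hom.left.left) :
    ∃ (n : ℕ) (Z : Fin n → AlgSp.EtOver X) (f : ∀ i, Z i ⟶ E), (∀ i, Aff X (Z i)) ∧ (∀ i, P (Z i)) ∧
      ∀ e ∈ Q, ∃ (i : Fin n) (z : (Z i).obj.left.left), (f i).hom.left.left z = e := by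
  choose V a hV hP he using h
  obtain ⟨t, ht⟩ := hQ.elim_finite_subcover (fun e : Q => Set.range (a e.1 e.2).hom.left.left)
    (fun e => haveI := AlgSp.EtOver.etale_left (a e.1 e.2); (a e.1 e.2).hom.left.left.isOpenMap.isOpen_range)
    (fun e hq => Set.mem_iUnion.2 ⟨⟨e, hq⟩, he e hq⟩)
  refine ⟨t.card, fun k => V _ (t.equivFin.symm k).1.2, fun k => a _ _, fun k => hV _ _, fun k => hP _ _,
    fun e hq => ?_⟩
  obtain ⟨w, hw, z, hz⟩ := Set.mem_iUnion₂.1 (ht hq)
  obtain ⟨k, rfl⟩ : ∃ k, (t.equivFin.symm k : Q) = w :=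
    ⟨t.equivFin ⟨w, hw⟩, by rw [Equiv.symm_apply_apply]⟩
  exact ⟨k, z, hz⟩

section Qcqs

variable [QuasiSeparatedSpace ↥S] {Xs : AlgSp.Space S}

theorem isCompact_preimage_chart (hqs : AlgSp.IsQuasiSeparatedSp Xs.obj) {E : AlgSp.EtOver Xs.obj}
    (hE : Aff Xs.obj E) {O : Set (AlgSp.Points Xs.obj)} (hO : IsOpen O) (hOc : IsCompact O) :
    IsCompact {e : E.obj.left.left | AlgSp.Points.ofPt E.obj.hom e ∈ O} := by
  haveI := compactSpace_aff hE
  have h : AlgSp.IsQuasiCompactMor E.obj.hom :=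
    Groth.Agent.S9920.result (X := ⟨_, AlgSp.IsAlgSpace.yon_obj E.obj.left⟩) (Y := Xs)
      (ObjectProperty.homMk E.obj.hom) ASp.isQuasiCompactSp_yon hqs
  have hc := ASp.isCompact_preimage_of_qcMor Xs.property h hO hOc
  have e : {e : E.obj.left.left | AlgSp.Points.ofPt E.obj.hom e ∈ O} =
      AlgSp.Points.schemeHomeo E.obj.left ⁻¹' (AlgSp.Points.map E.obj.hom ⁻¹' O) := by
    ext x
    rw [ASp.ofPt_comp_eq_map]
    rfl
  rw [e]
  exact (AlgSp.Points.schemeHomeo E.obj.left).isCompact_preimage.2 hc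

/-- Affine objects have finite coverings of their part over a compact open. -/
theorem hasLCover_LO (hqs : AlgSp.IsQuasiSeparatedSp Xs.obj) {E : AlgSp.EtOver Xs.obj} (hE : Aff Xs.obj E)
    {O : Set (AlgSp.Points Xs.obj)} (hO : IsOpen O) (hOc : IsCompact O) : HasLCover (LO O) E := by
  obtain ⟨n, Z, f, hZ, hL, hs⟩ := exists_finite_cover (LO O) _ (isCompact_preimage_chart hqs hE hO hOc)
    fun e he => by
      obtain ⟨U, hU, heU, hle⟩ := exists_isAffineOpen_mem_and_subset
        (U := (⟨_, hO.preimage (AlgSp.Points.continuous_ofPt E.obj.hom)⟩ : E.obj.left.left.Opens)) (x := e) he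
      refine ⟨openObj E U, openObjHom E U, aff_openObj E hU, fun u => ?_, ⟨e, heU⟩, rfl⟩
      show AlgSp.Points.ofPt ((AlgSp.yon S).map _ ≫ E.obj.hom) u ∈ O
      rw [ASp.ofPt_yon_map_comp]
      exact hle u.2
  exact ⟨n, Z, f, hZ, hL, fun W k hW hLW w => hs _ (by
    show AlgSp.Points.ofPt E.obj.hom (k.hom.left.left w) ∈ O
    rw [← ASp.ofPt_yon_map_comp, AlgSp.EtOver.w k]
    exact hLW w)⟩

/-- Objects over an enlarged open are covered by objects over the open and objects over the new chart. -/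
theorem cover_step (O : Set (AlgSp.Points Xs.obj)) (hO : IsOpen O) (T : AlgSp.EtOver Xs.obj)
    {E : AlgSp.EtOver Xs.obj} (hE : Aff Xs.obj E)
    (hL : LO (O ∪ Set.range (AlgSp.Points.ofPt T.obj.hom)) E) :
    ∃ (n : ℕ) (Z : Fin n → AlgSp.EtOver Xs.obj) (f : ∀ i, Z i ⟶ E), (∀ i, Aff Xs.obj (Z i)) ∧
      (∀ i, LO O (Z i) ∨ Nonempty (Z i ⟶ T)) ∧
      ∀ e, ∃ (i : Fin n) (z : (Z i).obj.left.left), (f i).hom.left.left z = e := by
  haveI := compactSpace_aff hE
  obtain ⟨n, Z, f, hZ, hP, hs⟩ := exists_finite_cover (fun Z => LO O Z ∨ Nonempty (Z ⟶ T)) Set.univ isCompact_univ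
    fun e _ => by
      rcases hL e with he | ⟨t, ht⟩
      · obtain ⟨U, hU, heU, hle⟩ := exists_isAffineOpen_mem_and_subset
          (U := (⟨_, hO.preimage (AlgSp.Points.continuous_ofPt E.obj.hom)⟩ : E.obj.left.left.Opens)) (x := e) he
        refine ⟨openObj E U, openObjHom E U, aff_openObj E hU, Or.inl fun u => ?_, ⟨e, heU⟩, rfl⟩
        show AlgSp.Points.ofPt ((AlgSp.yon S).map _ ≫ E.obj.hom) u ∈ O
        rw [ASp.ofPt_yon_map_comp]
        exact hle u.2
      · obtain ⟨P, a, b, r, ha, hb, w, hr1, hr2⟩ := ASp.exists_common_point T.property E.property ht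
        let V : AlgSp.EtOver Xs.obj := AlgSp.EtOver.mk ((AlgSp.yon S).map b ≫ E.obj.hom)
          (ASp.repWith_comp (P := @AlgebraicGeometry.Etale)
            (ASp.repWith_yon_map (P := @AlgebraicGeometry.Etale) (g := b) hb) E.property)
        obtain ⟨U, hU, hrU, -⟩ := exists_isAffineOpen_mem_and_subset (X := V.obj.left.left) (U := ⊤) (x := r) trivial
        let aV : V ⟶ T := AlgSp.EtOver.homMk a w
        let bV : V ⟶ E := AlgSp.EtOver.homMk b rfl
        exact ⟨openObj V U, openObjHom V U ≫ bV, aff_openObj V hU, Or.inr ⟨openObjHom V U ≫ aV⟩, ⟨r, hrU⟩, hr2⟩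
  exact ⟨n, Z, f, hZ, hP, fun e => hs e trivial⟩

/-- Two morphisms to the new chart agree locally outside the open. -/
theorem cover_equalizer {W₁ W₂ : AlgSp.Space S} {j₁ : W₁ ⟶ Xs} {j₂ : W₂ ⟶ Xs} [Mono j₂.hom]
    {κ : W₁ ⟶ W₂} (hκ : κ ≫ j₂ = j₁) (T : AlgSp.EtOver Xs.obj) {g : (AlgSp.yon S).obj T.obj.left ⟶ W₂.obj}
    (hg : g ≫ j₂.hom = T.obj.hom) (hd : AlgSp.IsElemDistSq κ.hom g)
    (O : Set (AlgSp.Points Xs.obj)) (hO : IsOpen O) (hOr : Set.range (AlgSp.Points.map j₁.hom) = O)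
    {Z : AlgSp.EtOver Xs.obj} (hZ : Aff Xs.obj Z) (k₁ k₂ : Z ⟶ T) :
    ∃ (n : ℕ) (V : Fin n → AlgSp.EtOver Xs.obj) (f : ∀ i, V i ⟶ Z), (∀ i, Aff Xs.obj (V i)) ∧
      (∀ i, LO O (V i) ∨ f i ≫ k₁ = f i ≫ k₂) ∧
      ∀ e, ∃ (i : Fin n) (v : (V i).obj.left.left), (f i).hom.left.left v = e := by
  haveI := compactSpace_aff hZ
  have hex : ∀ e : Z.obj.left.left, ∃ U : Z.obj.left.left.Opens, IsAffineOpen U ∧ e ∈ U ∧
      (LO O (openObj Z U) ∨ openObjHom Z U ≫ k₁ = openObjHom Z U ≫ k₂) := by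
    intro e
    by_cases he : AlgSp.Points.ofPt Z.obj.hom e ∈ O
    · obtain ⟨U, hU, heU, hle⟩ := exists_isAffineOpen_mem_and_subset
        (U := (⟨_, hO.preimage (AlgSp.Points.continuous_ofPt Z.obj.hom)⟩ : Z.obj.left.left.Opens)) (x := e) he
      refine ⟨U, hU, heU, Or.inl fun u => ?_⟩
      show AlgSp.Points.ofPt ((AlgSp.yon S).map _ ≫ Z.obj.hom) u ∈ O
      rw [ASp.ofPt_yon_map_comp]
      exact hle u.2
    · let Q : Over S := Over.mk (Z.obj.left.left.fromSpecResidueField e ≫ Z.obj.left.hom)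
      let q : Q ⟶ Z.obj.left := Over.homMk (Z.obj.left.left.fromSpecResidueField e) rfl
      haveI : IsReduced Q.left := inferInstanceAs (IsReduced (Spec (Z.obj.left.left.residueField e)))
      have hv : ∀ k : Z ⟶ T, ((AlgSp.yon S).map (q ≫ k.hom.left) ≫ g) ≫ j₂.hom = (AlgSp.yon S).map q ≫ Z.obj.hom := by
        intro k
        rw [Category.assoc, hg, Functor.map_comp, Category.assoc, AlgSp.EtOver.w k]
      have heq := ElemSqLib.lift_unique hd ((AlgSp.yon S).map (q ≫ k₁.hom.left))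
        ((AlgSp.yon S).map (q ≫ k₂.hom.left))
        ((cancel_mono j₂.hom).1 ((hv k₁).trans (hv k₂).symm))
        (fun r hr => he (by
          obtain ⟨a, ha⟩ := hr
          rw [← hOr]
          refine ⟨a, ?_⟩
          rw [← hκ, ObjectProperty.FullSubcategory.comp_hom, AlgSp.Points.map_comp, ha, AlgSp.Points.map_ofPt,
            hv k₁, ASp.ofPt_yon_map_comp]
          exact congrArg (AlgSp.Points.ofPt Z.obj.hom) (Scheme.fromSpecResidueField_apply (X := Z.obj.left.left) e r)))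
      have heq' := congrArg CommaMorphism.left ((AlgSp.yon S).map_injective heq)
      obtain ⟨U, hU, heU, hUe⟩ := exists_nhd_eq k₁ k₂ e heq'
      exact ⟨U, hU, heU, Or.inr hUe⟩
  choose U hU heU hUP using hex
  obtain ⟨t, ht⟩ := isCompact_univ.elim_finite_subcover (fun e => (U e : Set Z.obj.left.left))
    (fun e => (U e).2) (fun e _ => Set.mem_iUnion.2 ⟨e, heU e⟩)
  refine ⟨t.card, fun k => openObj Z (U (t.equivFin.symm k)), fun k => openObjHom Z _, fun k => aff_openObj Z (hU _),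
    fun k => hUP _, fun e => ?_⟩
  obtain ⟨w, hw, he⟩ := Set.mem_iUnion₂.1 (ht (Set.mem_univ e))
  obtain ⟨k, rfl⟩ : ∃ k, (t.equivFin.symm k : Z.obj.left.left) = w :=
    ⟨t.equivFin ⟨w, hw⟩, by rw [Equiv.symm_apply_apply]⟩
  exact ⟨k, ⟨e, he⟩, rfl⟩

end Qcqs

end Groth.Agent.AlgSpFT

end
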