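import Groth.Agent.AlgSpQC.SubMod
import Groth.Agent.AlgSpFT.Alg

/-! Quasi-coherent submodules from local data. -/

set_option autoImplicit false
set_option linter.style.haveILetI false
set_option linter.unusedSectionVars false
set_option backward.isDefEq.respectTransparency false
set_option backward.isDefEq.respectTransparency.types false
set_option maxHeartbeats 800000

universe u

open CategoryTheory Limits AlgebraicGeometry Opposite TensorProduct
open Groth.Agent.AlgSpQC

noncomputable section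

namespace Groth.Agent.AlgSpFT

variable {S : Scheme.{u}} {X : AlgSp.Sp S}

/-- A quasi-coherent family of submodules on the affine objects of a class. -/
structure PSub (M : AlgSp.ModEt X) (L : AlgSp.EtOver X → Prop) where
  /-- the submodule over an affine object of the class -/
  N : ∀ E, Aff X E → L E → Submodule ((AlgSp.OEt X).obj.obj (op E)) (Sec M E)
  mem_res : ∀ {E E' : AlgSp.EtOver X} (g : E' ⟶ E) (hE : Aff X E) (hE' : Aff X E') (hL : L E) (hL' : L E')
    (x : Sec M E), x ∈ N E hE hL → (show Sec M E' from res (O := (AlgSp.OEt X).obj) M.val g x) ∈ N E' hE' hL'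
  gen : ∀ {E E' : AlgSp.EtOver X} (g : E' ⟶ E) (hE : Aff X E) (hE' : Aff X E') (hL : L E) (hL' : L E'),
    N E' hE' hL' ≤ Submodule.span ((AlgSp.OEt X).obj.obj (op E'))
      ((fun x : Sec M E => (show Sec M E' from res (O := (AlgSp.OEt X).obj) M.val g x)) '' (N E hE hL : Set (Sec M E)))

/-- A finite family of objects of a class covering everything of the class over an object. -/
def HasLCover (L : AlgSp.EtOver X → Prop) (E : AlgSp.EtOver X) : Prop :=
  ∃ (n : ℕ) (Z : Fin n → AlgSp.EtOver X) (f : ∀ i, Z i ⟶ E), (∀ i, Aff X (Z i)) ∧ (∀ i, L (Z i)) ∧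
    ∀ (W : AlgSp.EtOver X) (k : W ⟶ E), Aff X W → L W → ∀ w : W.obj.left.left,
      ∃ (i : Fin n) (z : (Z i).obj.left.left), (f i).hom.left.left z = k.hom.left.left w

theorem exists_prime_lift {n : ℕ} {W : AlgSp.EtOver X} (hW : Aff X W) {V : Fin n → AlgSp.EtOver X}
    (h : ∀ i, V i ⟶ W) (hs : ∀ w : W.obj.left.left, ∃ (i : Fin n) (v : (V i).obj.left.left), (h i).hom.left.left v = w)
    (p : PrimeSpectrum ((AlgSp.OEt X).obj.obj (op W))) :
    ∃ (i : Fin n) (q : PrimeSpectrum ((AlgSp.OEt X).obj.obj (op (V i)))),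
      PrimeSpectrum.comap (rh (AlgSp.OEt X).obj (h i)) q = p := by
  haveI : IsAffine W.obj.left.left := hW
  let p₀ : Spec Γ(W.obj.left.left, ⊤) := PrimeSpectrum.comap (upEquiv X W).toRingHom p
  let w := W.obj.left.left.isoSpec.inv p₀
  obtain ⟨i, v, hv⟩ := hs w
  refine ⟨i, PrimeSpectrum.comap (upEquiv X _).symm.toRingHom ((V i).obj.left.left.toSpecΓ v), ?_⟩
  rw [comap_rh_upEquiv, toSpecΓ_comp, hv]
  have : W.obj.left.left.toSpecΓ w = p₀ := by
    rw [← Scheme.Hom.comp_apply, Scheme.isoSpec_inv_toSpecΓ]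
    rfl
  rw [this, ← PrimeSpectrum.comap_comp_apply,
    show (upEquiv X W).toRingHom.comp (upEquiv X W).symm.toRingHom = RingHom.id _ from
      RingHom.ext fun r => (upEquiv X W).apply_symm_apply r, PrimeSpectrum.comap_id]

namespace PSub

variable {M : AlgSp.ModEt X} {L : AlgSp.EtOver X → Prop} (D : PSub M L)

/-- The sections all of whose restrictions to the class lie in the family. -/
def ext (E : AlgSp.EtOver X) : Submodule ((AlgSp.OEt X).obj.obj (op E)) (Sec M E) where
  carrier := {x | ∀ (Z : AlgSp.EtOver X) (k : Z ⟶ E) (hZ : Aff X Z) (hL : L Z),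
    (show Sec M Z from res (O := (AlgSp.OEt X).obj) M.val k x) ∈ D.N Z hZ hL}
  add_mem' {a b} ha hb Z k hZ hL := by
    rw [show res (O := (AlgSp.OEt X).obj) M.val k (a + b) =
      res (O := (AlgSp.OEt X).obj) M.val k a + res (O := (AlgSp.OEt X).obj) M.val k b from
        map_add (M.val.presheaf.map k.op).hom a b]
    exact (D.N Z hZ hL).add_mem (ha Z k hZ hL) (hb Z k hZ hL)
  zero_mem' Z k hZ hL := by
    rw [show res (O := (AlgSp.OEt X).obj) M.val k (0 : Sec M E) = 0 from map_zero (M.val.presheaf.map k.op).hom]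
    exact (D.N Z hZ hL).zero_mem
  smul_mem' r a ha Z k hZ hL := by
    rw [show res (O := (AlgSp.OEt X).obj) M.val k (r • a) = _ from M.val.map_smul k.op r a]
    exact (D.N Z hZ hL).smul_mem _ (ha Z k hZ hL)

theorem ext_res {E E' : AlgSp.EtOver X} (g : E' ⟶ E) {x : Sec M E} (hx : x ∈ D.ext E) :
    (show Sec M E' from res (O := (AlgSp.OEt X).obj) M.val g x) ∈ D.ext E' := fun Z k hZ hL => by
  rw [← res_comp]
  exact hx Z (k ≫ g) hZ hL

theorem ext_eq (hdown : ∀ {A B : AlgSp.EtOver X} (_ : B ⟶ A), L A → L B) {E : AlgSp.EtOver X} (hE : Aff X E)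
    (hL : L E) : D.ext E = D.N E hE hL := by
  refine le_antisymm (fun x hx => ?_) fun x hx Z k hZ hLZ => D.mem_res k hE hZ hL hLZ x hx
  have := hx E (𝟙 E) hE hL
  rwa [show res (O := (AlgSp.OEt X).obj) M.val (𝟙 E) x = x from res_id M.val x] at this

theorem span_le_range (hM : QC M) {E E' : AlgSp.EtOver X} (g : E' ⟶ E) (hE : Aff X E) (hE' : Aff X E')
    (hL : L E) (hL' : L E') :
    letI := (rh (AlgSp.OEt X).obj g).toAlgebra
    ∀ y ∈ D.N E' hE' hL', ∃ w : (AlgSp.OEt X).obj.obj (op E') ⊗[(AlgSp.OEt X).obj.obj (op E)] D.N E hE hL,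
      (θ (AlgSp.OEt X).obj g).app M.val ((D.N E hE hL).subtype.lTensor _ w) = y := by
  letI := (rh (AlgSp.OEt X).obj g).toAlgebra
  let θ' := ((θ (AlgSp.OEt X).obj g).app M.val).hom
  intro y hy
  have hy' := D.gen g hE hE' hL hL' hy
  clear hy
  induction hy' using Submodule.span_induction with
  | mem y hy =>
    obtain ⟨x, hx, rfl⟩ := hy
    refine ⟨1 ⊗ₜ ⟨x, hx⟩, ?_⟩
    rw [LinearMap.lTensor_tmul]
    exact (θ_tmul (O := (AlgSp.OEt X).obj) M.val g 1 x).trans (one_smul _ _)
  | zero => exact ⟨0, by rw [map_zero]; exact map_zero θ'⟩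
  | add a b _ _ ha hb =>
    obtain ⟨w, rfl⟩ := ha
    obtain ⟨v, rfl⟩ := hb
    exact ⟨w + v, by rw [map_add]; exact map_add θ' _ _⟩
  | smul r a hmem ha =>
    obtain ⟨w, rfl⟩ := ha
    clear hmem
    refine ⟨r • w, ?_⟩
    refine Eq.trans (congrArg θ' ?_) (θ'.map_smul r ((D.N E hE hL).subtype.lTensor _ w))
    induction w using TensorProduct.induction_on with
    | zero =>
      rw [smul_zero, map_zero]
      exact (smul_zero r).symm
    | tmul s x => rfl
    | add a b ha hb =>
      rw [smul_add, map_add, map_add, ha, hb]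
      exact (smul_add r _ _).symm

theorem mem_of_cover (hM : QC M) {E : AlgSp.EtOver X} (hE : Aff X E) (hL : L E) {n : ℕ} {Z : Fin n → AlgSp.EtOver X}
    (f : ∀ i, Z i ⟶ E) (hZ : ∀ i, Aff X (Z i)) (hLZ : ∀ i, L (Z i))
    (hs : ∀ w : E.obj.left.left, ∃ (i : Fin n) (v : (Z i).obj.left.left), (f i).hom.left.left v = w)
    (x : Sec M E) (hx : ∀ i, (show Sec M (Z i) from res (O := (AlgSp.OEt X).obj) M.val (f i) x) ∈ D.N (Z i) (hZ i) (hLZ i)) :
    x ∈ D.N E hE hL := by
  let R := (AlgSp.OEt X).obj.obj (op E)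
  let B := fun i : ULift.{u + 1} (Fin n) => ((AlgSp.OEt X).obj.obj (op (Z i.down)) : Type (u + 1))
  letI : ∀ i, Algebra R (B i) := fun i => (rh (AlgSp.OEt X).obj (f i.down)).toAlgebra
  haveI : Module.FaithfullyFlat R (∀ i, B i) :=
    faithfullyFlat_family (f := f) (affSite X) hE hZ (exists_prime_lift hE f hs)
  refine AffSub.local_aux (D.N E hE hL) B x fun i => ?_
  obtain ⟨w, hw⟩ := D.span_le_range hM (f i.down) hE (hZ _) hL (hLZ _) _ (hx i.down)
  refine ⟨w, (hM.bijective (f i.down) hE (hZ _)).1 (hw.trans ?_)⟩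
  exact ((θ_tmul (O := (AlgSp.OEt X).obj) M.val (f i.down) 1 x).trans (one_smul _ _)).symm

variable (hdown : ∀ {A B : AlgSp.EtOver X} (_ : B ⟶ A), L A → L B)

include hdown in
/-- Membership in the extension is tested on a covering family. -/
theorem mem_ext_of_cover (hM : QC M) {E : AlgSp.EtOver X} (hE : Aff X E) {n : ℕ} {Z : Fin n → AlgSp.EtOver X}
    (f : ∀ i, Z i ⟶ E) (hZ : ∀ i, Aff X (Z i)) (hLZ : ∀ i, L (Z i))
    (hs : ∀ (W : AlgSp.EtOver X) (k : W ⟶ E), Aff X W → L W → ∀ w : W.obj.left.left,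
      ∃ (i : Fin n) (z : (Z i).obj.left.left), (f i).hom.left.left z = k.hom.left.left w)
    (x : Sec M E) (hx : ∀ i, (show Sec M (Z i) from res (O := (AlgSp.OEt X).obj) M.val (f i) x) ∈ D.N (Z i) (hZ i) (hLZ i)) :
    x ∈ D.ext E := by
  intro W k hW hL
  choose V h h' hV e hpb hpo using fun i => (affSite X).exists_fibre k (f i) hE hW (hZ i)
  refine D.mem_of_cover hM hW hL h hV (fun i => hdown (h i) hL) (fun w => ?_) _ fun i => ?_
  · obtain ⟨i, z, hz⟩ := hs W k hW hL w
    obtain ⟨v, hv, -⟩ := Scheme.exists_preimage_of_isPullback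
      ((hpb i).map (AlgSp.EtOver.toScheme X)) w z hz.symm
    exact ⟨i, v, hv⟩
  · rw [← res_comp, e i, res_comp]
    exact D.mem_res (h' i) (hZ i) (hV i) (hLZ i) (hdown (h i) hL) _ (hx i)

include hdown in
set_option maxHeartbeats 3200000 in
/-- The extension is compatible with base change. -/
theorem ext_gen (hM : QC M) {E E' : AlgSp.EtOver X} (g : E' ⟶ E) (hE : Aff X E) (hE' : Aff X E')
    (hcov : HasLCover L E) :
    D.ext E' ≤ Submodule.span ((AlgSp.OEt X).obj.obj (op E'))
      ((fun x : Sec M E => (show Sec M E' from res (O := (AlgSp.OEt X).obj) M.val g x)) '' (D.ext E : Set (Sec M E))) := by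
  obtain ⟨n, Z, f, hZ, hLZ, hs⟩ := hcov
  intro y hy
  let O := (AlgSp.OEt X).obj
  let R := O.obj (op E)
  let B := O.obj (op E')
  letI : Algebra R B := (rh O g).toAlgebra
  haveI : Module.Flat R B := (affSite X).flat g hE hE'
  letI : ∀ i, Algebra R (O.obj (op (Z i))) := fun i => (rh O (f i)).toAlgebra
  letI : ∀ i, Module R (Sec M (Z i)) := fun i => Module.compHom _ (rh O (f i))
  haveI : ∀ i, IsScalarTower R (O.obj (op (Z i))) (Sec M (Z i)) := fun i =>
    IsScalarTower.of_algebraMap_smul fun _ _ => rfl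
  let r : ∀ i, Sec M E →ₗ[R] Sec M (Z i) := fun i =>
    { toFun := fun x => (show Sec M (Z i) from res (O := O) M.val (f i) x)
      map_add' := fun a b => map_add (M.val.presheaf.map (f i).op).hom a b
      map_smul' := fun c a => M.val.map_smul (f i).op c a }
  let Ni : ∀ i, Submodule R (Sec M (Z i)) := fun i => (D.N (Z i) (hZ i) (hLZ i)).restrictScalars R
  obtain ⟨z, hz⟩ := (hM.bijective g hE hE').2 y
  have hr : ∀ i, (r i).lTensor B z ∈ LinearMap.range ((Ni i).subtype.lTensor B) := by
    intro i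
    obtain ⟨V, h, k, hV, e, -, hpo⟩ := (affSite X).exists_fibre g (f i) hE hE' (hZ i)
    letI : Algebra B (O.obj (op V)) := (rh O h).toAlgebra
    letI : Algebra (O.obj (op (Z i))) (O.obj (op V)) := (rh O k).toAlgebra
    letI : Algebra R (O.obj (op V)) := ((rh O h).comp (rh O g)).toAlgebra
    haveI : IsScalarTower R B (O.obj (op V)) := IsScalarTower.of_algebraMap_eq fun _ => rfl
    haveI : IsScalarTower R (O.obj (op (Z i))) (O.obj (op V)) :=
      IsScalarTower.of_algebraMap_eq fun c => ConcreteCategory.congr_hom hpo.w c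
    haveI : Algebra.IsPushout R B (O.obj (op (Z i))) (O.obj (op V)) :=
      CommRingCat.isPushout_iff_isPushout.1 hpo
    let cM := Algebra.IsPushout.cancelBaseChange R B (O.obj (op (Z i))) (O.obj (op V)) (Sec M (Z i))
    let cN := Algebra.IsPushout.cancelBaseChange R B (O.obj (op (Z i))) (O.obj (op V)) (D.N (Z i) (hZ i) (hLZ i))
    let θk := ((θ O k).app M.val).hom
    have hkey : ∀ w : B ⊗[R] Sec M E,
        θk (cM.symm ((r i).lTensor B w)) = res (O := O) M.val h ((θ O g).app M.val w) := by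
      intro w
      induction w using TensorProduct.induction_on with
      | zero =>
        rw [map_zero, map_zero]
        refine (map_zero θk).trans ?_
        exact (map_zero (M.val.presheaf.map h.op).hom).symm.trans
          (congrArg (M.val.presheaf.map h.op).hom (map_zero ((θ O g).app M.val).hom).symm)
      | tmul b x =>
        rw [LinearMap.lTensor_tmul, Algebra.IsPushout.cancelBaseChange_symm_tmul]
        refine (θ_tmul (O := O) M.val k _ _).trans ?_
        refine Eq.trans ?_ (M.val.map_smul h.op b (res (O := O) M.val g x)).symm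
        refine congrArg (fun m : Sec M V => rh O h b • m) ?_
        show res (O := O) M.val k (res (O := O) M.val (f i) x) = res (O := O) M.val h (res (O := O) M.val g x)
        rw [← res_comp, ← res_comp, e]
      | add a b ha hb =>
        rw [map_add, map_add]
        refine (map_add θk _ _).trans ?_
        refine (congrArg₂ (· + ·) ha hb).trans ?_
        exact ((congrArg (M.val.presheaf.map h.op).hom (map_add ((θ O g).app M.val).hom a b)).trans
          (map_add (M.val.presheaf.map h.op).hom _ _)).symm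
    have hyV := hy V h hV (hdown k (hLZ i))
    obtain ⟨w, hw⟩ := D.span_le_range hM k (hZ i) hV (hLZ i) (hdown k (hLZ i)) _ hyV
    refine ⟨cN w, cM.symm.injective ?_⟩
    have hnat : ∀ t, cM.symm ((Ni i).subtype.lTensor B t) =
        (D.N (Z i) (hZ i) (hLZ i)).subtype.lTensor (O.obj (op V)) (cN.symm t) := by
      intro t
      induction t using TensorProduct.induction_on with
      | zero => simp only [map_zero]
      | tmul b x =>
        rw [LinearMap.lTensor_tmul, Algebra.IsPushout.cancelBaseChange_symm_tmul]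
        exact (congrArg ((D.N (Z i) (hZ i) (hLZ i)).subtype.lTensor (O.obj (op V)))
          (Algebra.IsPushout.cancelBaseChange_symm_tmul R B (O.obj (op (Z i))) (O.obj (op V)) (D.N (Z i) (hZ i) (hLZ i)) b x)).symm
      | add a b ha hb => simp only [map_add, ha, hb]
    rw [hnat, LinearEquiv.symm_apply_apply]
    refine (hM.bijective k (hZ i) hV).1 (hw.trans ?_)
    rw [← hz]
    exact (hkey z).symm
  obtain ⟨t, ht⟩ := exists_iInf_comap_lift (B := B) (fun i => (Sec M (Z i) : Type (u + 1))) Ni r z hr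
  rw [← hz, ← ht]
  clear ht hz
  let θg := ((θ O g).app M.val).hom
  induction t using TensorProduct.induction_on with
  | zero =>
    rw [map_zero]
    exact (map_zero θg).symm ▸ Submodule.zero_mem _
  | tmul s x =>
    rw [LinearMap.lTensor_tmul]
    refine (θ_tmul (O := O) M.val g s _).symm ▸ Submodule.smul_mem _ _ (Submodule.subset_span ⟨x.1, ?_, rfl⟩)
    exact D.mem_ext_of_cover hdown hM hE f hZ hLZ hs x.1 fun i => (Submodule.mem_iInf _).1 x.2 i
  | add a b ha hb =>
    rw [map_add]
    exact (map_add θg _ _).symm ▸ Submodule.add_mem _ ha hb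

end PSub

end Groth.Agent.AlgSpFT

end
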