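import Groth.Agent.AlgSpFT.Step

/-! Finite type submodules with prescribed values on a compact open. -/

set_option autoImplicit false
set_option linter.style.haveILetI false
set_option backward.isDefEq.respectTransparency false
set_option backward.isDefEq.respectTransparency.types false

universe u

open CategoryTheory Limits AlgebraicGeometry Opposite
open Groth.Agent.AlgSpQC

noncomputable section

namespace Groth.Agent.AlgSpFT

variable {S : Scheme.{u}} [QuasiSeparatedSpace ↥S]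

/-- A family of finite type on a compact open extends to a finite type submodule containing prescribed sections. -/
theorem exists_extension (Xs : AlgSp.Space S) (hqc : AlgSp.IsQuasiCompactSp Xs.obj)
    (hqs : AlgSp.IsQuasiSeparatedSp Xs.obj) {N : AlgSp.ModEt Xs.obj} (hN : QC N)
    {O₀ : Set (AlgSp.Points Xs.obj)} (hO₀ : IsOpen O₀) (hc₀ : IsCompact O₀) (D₀ : PSub N (LO O₀)) (hD₀ : D₀.FT)
    (R : List (Req N)) (hR : ∀ r ∈ R, r.2 ∈ D₀.ext r.1.1) :
    ∃ A : AffSub N, (∀ E hE, (A.N E hE).FG) ∧ (∀ E hE (hL₀ : LO O₀ E), A.N E hE = D₀.N E hE hL₀) ∧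
      ∀ r ∈ R, r.2 ∈ A.N r.1.1 r.1.2 := by
  have key : Ext₀ D₀ Set.univ := by
    refine AlgSpInd.enlarge Xs hqc hqs O₀ hO₀ hc₀ (Ext₀ D₀)
      (fun R hR => ⟨D₀, hD₀, fun _ _ _ _ => rfl, hR⟩) fun O hO O' hOc h0O hO' hOc' hP hsq => ?_
    obtain ⟨T, g, κ, hT, hκ, hge, hd⟩ :=
      hsq (AlgSpInd.sub Xs O' hO') (AlgSpInd.subIncl Xs O' hO') (AlgSpInd.repWith_subIncl _ _ _)
        (AlgSpInd.range_subIncl _ _ _)
    let TE : AlgSp.EtOver Xs.obj := AlgSp.EtOver.mk (g ≫ (AlgSpInd.subIncl Xs O' hO').hom) hge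
    haveI := AlgSpInd.mono_openImm (AlgSpInd.repWith_subIncl Xs O' hO')
    have hu : O' = O ∪ Set.range (AlgSp.Points.ofPt TE.obj.hom) := by
      apply le_antisymm
      · intro x hx
        obtain ⟨y, rfl⟩ := (AlgSpInd.range_subIncl Xs O' hO').symm.subset hx
        rcases ElemSqLib.mem_range_or hd y with ⟨a, rfl⟩ | ⟨a, rfl⟩
        · refine Or.inl ((AlgSpInd.range_subIncl Xs O hO).subset ⟨a, ?_⟩)
          rw [← hκ]
          exact AlgSp.Points.map_comp _ _ _
        · obtain ⟨a, rfl⟩ := (AlgSp.Points.schemeHomeo T).surjective a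
          refine Or.inr ⟨a, ?_⟩
          rw [ASp.ofPt_comp_eq_map]
          exact AlgSp.Points.map_comp _ _ _
      · rintro x (hx | ⟨a, rfl⟩)
        · obtain ⟨y, rfl⟩ := (AlgSpInd.range_subIncl Xs O hO).symm.subset hx
          refine (AlgSpInd.range_subIncl Xs O' hO').subset ⟨AlgSp.Points.map κ.hom y, ?_⟩
          rw [← hκ]
          exact (AlgSp.Points.map_comp _ _ _).symm
        · refine (AlgSpInd.range_subIncl Xs O' hO').subset
            ⟨AlgSp.Points.map g (AlgSp.Points.schemeHomeo T a), ?_⟩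
          rw [ASp.ofPt_comp_eq_map]
          exact (AlgSp.Points.map_comp _ _ _).symm
    exact ext₀_step hqs hN hO₀ hc₀ D₀ hO hOc h0O hO' hOc' TE hT hu
      (fun Z hZ k₁ k₂ => cover_equalizer hκ TE rfl hd O hO (AlgSpInd.range_subIncl _ _ _) hZ k₁ k₂) hP
  obtain ⟨D, hFT, hag, hmem⟩ := key R hR
  refine ⟨{ N := fun E hE => D.N E hE fun _ => trivial
            mem_res := fun g hE hE' x hx => D.mem_res g hE hE' _ _ x hx
            gen := fun g hE hE' => D.gen g hE hE' _ _ }, fun E hE => hFT _ _ _, fun E hE hL₀ => hag E hE hL₀ _, fun r hr => ?_⟩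
  exact (D.ext_eq (LO_down _) r.1.2 fun _ => trivial).le (hmem r hr)

end Groth.Agent.AlgSpFT

end
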