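import Groth.Agent.AlgSpFT.Extend
import Groth.Agent.ASp.CutOut
import Groth.Agent.ASp.RedSub
import Groth.Agent.ASp.InvOpen
import Groth.Agent.AlgSpQC.SubMod

/-! Quasi-compact open subspaces are complements of finite type ideals. -/

set_option autoImplicit false
set_option linter.style.haveILetI false
set_option linter.unusedSectionVars false
set_option backward.isDefEq.respectTransparency false
set_option backward.isDefEq.respectTransparency.types false
set_option maxHeartbeats 800000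

universe u

open CategoryTheory Limits AlgebraicGeometry Opposite
open Groth.Agent.AlgSpQC

noncomputable section

namespace Groth.Agent.AlgSpFT

variable {S : Scheme.{u}}

theorem mem_basicOpen_iff_prime {T : Scheme.{u}} (w : T) (a : Γ(T, ⊤)) :
    w ∈ T.basicOpen a ↔ a ∉ AlgSp.primeAtPt T w := by
  rw [Scheme.mem_basicOpen_top]
  show _ ↔ ¬ (T.presheaf.germ ⊤ w trivial a ∈ IsLocalRing.maximalIdeal (T.presheaf.stalk w))
  rw [IsLocalRing.mem_maximalIdeal, mem_nonunits_iff, not_not]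

theorem mem_zeroLocus_iff_prime {T : Scheme.{u}} (w : T) (I : Ideal Γ(T, ⊤)) :
    w ∈ T.zeroLocus (U := ⊤) (I : Set Γ(T, ⊤)) ↔ I ≤ AlgSp.primeAtPt T w := by
  rw [Scheme.mem_zeroLocus_iff]
  exact ⟨fun h a ha => by_contra fun hn => h a ha ((mem_basicOpen_iff_prime w a).2 hn),
    fun h a ha hn => (mem_basicOpen_iff_prime w a).1 hn (h ha)⟩

theorem eq_top_of_not_le_prime {T : Scheme.{u}} [IsAffine T] {I : Ideal Γ(T, ⊤)}
    (h : ∀ w : T, ¬ I ≤ AlgSp.primeAtPt T w) : I = ⊤ := by
  have h0 : T.zeroLocus (U := ⊤) (I : Set Γ(T, ⊤)) = ∅ :=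
    Set.eq_empty_of_forall_notMem fun w hw => h w ((mem_zeroLocus_iff_prime w I).1 hw)
  refine PrimeSpectrum.zeroLocus_empty_iff_eq_top.1 (Set.eq_empty_of_forall_notMem fun p hp => ?_)
  have e := (isAffineOpen_top T).fromSpec_image_zeroLocus (I : Set Γ(T, ⊤))
  rw [h0, Set.empty_inter] at e
  exact e.subset ⟨p, hp, rfl⟩

theorem prime_comap {T T' : Scheme.{u}} (f : T' ⟶ T) (w : T') (a : Γ(T, ⊤)) :
    f.appTop a ∈ AlgSp.primeAtPt T' w ↔ a ∈ AlgSp.primeAtPt T (f w) := by
  rw [← not_iff_not, ← mem_basicOpen_iff_prime, ← mem_basicOpen_iff_prime, ← Scheme.preimage_basicOpen_top]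
  rfl

variable {X : AlgSp.Space S} {Z U : AlgSp.Space S}

/-- The points of a cut out subspace on an affine chart. -/
theorem mem_range_iff_ideal_le {i : Z ⟶ X} {I : AlgSp.IdealEt X.obj} (hi : AlgSp.IsCutOutBy I i.hom)
    (E : AlgSp.EtOver X.obj) (hE : IsAffine E.obj.left.left) (w : E.obj.left.left) :
    AlgSp.Points.ofPt E.obj.hom w ∈ Set.range (AlgSp.Points.map i.hom) ↔
      I.ideal E hE ≤ AlgSp.primeAtPt E.obj.left.left w := by
  haveI := hE
  have hr := hi.choose
  let b := (AlgSp.EtOver.bcπ hr.1 E).left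
  haveI hb : IsClosedImmersion b := hr.2 _ _ _ (hr.1.isPullback E.obj.hom)
  have hI : I.ideal E hE = RingHom.ker b.appTop.hom := by
    rw [← hi.choose_spec]
    rfl
  have hrange : Set.range b = E.obj.left.left.zeroLocus (U := ⊤) (I.ideal E hE : Set Γ(E.obj.left.left, ⊤)) := by
    rw [← b.isClosedEmbedding.isClosed_range.closure_eq, ← b.support_ker, Scheme.ker_of_isAffine b,
      Scheme.IdealSheafData.coe_support_ofIdealTop, hI]
  rw [← mem_zeroLocus_iff_prime, ← hrange]
  have sq := hr.1.isPullback E.obj.hom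
  constructor
  · rintro ⟨z, hz⟩
    obtain ⟨x, -, hx⟩ := ASp.points_exists_of_isPullback sq z (AlgSp.Points.ofPt (𝟙 _) w)
      (by rw [hz, AlgSp.Points.map_ofPt, Category.id_comp])
    obtain ⟨v, rfl⟩ := (AlgSp.Points.schemeHomeo _).surjective x
    refine ⟨v, (AlgSp.Points.schemeHomeo E.obj.left).injective ?_⟩
    show AlgSp.Points.ofPt (𝟙 _) (b v) = AlgSp.Points.ofPt (𝟙 _) w
    rw [← hx]
    refine (ASp.ofPt_yon_map_comp (AlgSp.EtOver.bcπ hr.1 E) (𝟙 _) v).symm.trans ?_
    exact (congrArg (fun q => AlgSp.Points.ofPt q v) ((Category.comp_id _).trans (Category.id_comp _).symm)).trans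
      (AlgSp.Points.map_ofPt _ _ _).symm
  · rintro ⟨v, rfl⟩
    refine ⟨AlgSp.Points.ofPt (hr.1.fst E.obj.hom) v, ?_⟩
    rw [AlgSp.Points.map_ofPt, sq.w]
    exact ASp.ofPt_yon_map_comp _ _ _

/-- Complements of finite type ideals are quasi-compact. -/
theorem isQuasiCompactSp_of_ideal (hqc : AlgSp.IsQuasiCompactSp X.obj) (j : U ⟶ X)
    (hj : AlgSp.RepWith @IsOpenImmersion j.hom) {I : AlgSp.IdealEt X.obj}
    (hft : ∀ (E : AlgSp.EtOver X.obj) (hE : IsAffine E.obj.left.left), (I.ideal E hE).FG) {i : Z ⟶ X}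
    (hi : AlgSp.IsCutOutBy I i.hom)
    (hc : Set.range (AlgSp.Points.map i.hom) = (Set.range (AlgSp.Points.map j.hom))ᶜ) :
    AlgSp.IsQuasiCompactSp U.obj := by
  haveI := ASp.compactSpace_of_isQuasiCompactSp hqc
  obtain ⟨V, p, hV, hp, hps⟩ := ASp.exists_affine_chart X.property
  let E : AlgSp.EtOver X.obj := AlgSp.EtOver.mk p hp
  haveI : IsAffine E.obj.left.left := hV
  obtain ⟨T, hT⟩ := hft E hV
  have hpre : AlgSp.Points.ofPt p ⁻¹' Set.range (AlgSp.Points.map j.hom) =
      ⋃ a ∈ T, (E.obj.left.left.basicOpen a : Set E.obj.left.left) := by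
    ext w
    have h1 : AlgSp.Points.ofPt p w ∈ Set.range (AlgSp.Points.map i.hom) ↔
        I.ideal E hV ≤ AlgSp.primeAtPt E.obj.left.left w := mem_range_iff_ideal_le hi E hV w
    rw [hc, Set.mem_compl_iff] at h1
    rw [Set.mem_preimage, ← not_not (a := AlgSp.Points.ofPt p w ∈ _), h1, ← hT, Ideal.span_le]
    simp only [Set.not_subset, Finset.mem_coe, SetLike.mem_coe, Set.mem_iUnion, exists_prop]
    exact exists_congr fun a => and_congr_right fun _ => (mem_basicOpen_iff_prime w a).symm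
  have hcp : IsCompact (AlgSp.Points.ofPt p ⁻¹' Set.range (AlgSp.Points.map j.hom)) := by
    rw [hpre]
    exact T.finite_toSet.isCompact_biUnion fun a _ => ((isAffineOpen_top _).basicOpen a).isCompact
  have hi' : AlgSp.RepWith @IsImmersion j.hom :=
    ASp.repWith_mono (fun _ _ g (hg : IsOpenImmersion g) => inferInstanceAs (IsImmersion g)) hj
  haveI : CompactSpace (AlgSp.Points U.obj) := by
    refine ⟨(ASp.isEmbedding_of_immersion X.property hi').1.isInducing.isCompact_iff.2 ?_⟩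
    rw [Set.image_univ]
    have := hcp.image (AlgSp.Points.continuous_ofPt p)
    rwa [Set.image_preimage_eq _ (ASp.surjective_ofPt hps)] at this
  exact ASp.isQuasiCompactSp_of_compactSpace U.property

/-- The submodule of functions of a quasi-coherent ideal. -/
def idealSub {Y : AlgSp.Sp S} (I : AlgSp.IdealEt Y) (hI : I.IsQCoh) : AffSub (AlgSp.unitModEt Y) where
  N E hE := (show Ideal ((AlgSp.OEt Y).obj.obj (op E)) from (I.ideal E hE).comap (upEquiv Y E).symm.toRingHom)
  mem_res {E E'} g hE hE' x hx := I.map_le g hE hE' (Ideal.mem_map_of_mem _ hx)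
  gen {E E'} g hE hE' y hy := by
    let J : Ideal Γ(E'.obj.left.left, ⊤) :=
      (show Ideal ((AlgSp.OEt Y).obj.obj (op E')) from
        Ideal.span ((fun x => rh (AlgSp.OEt Y).obj g x) ''
          {x | (upEquiv Y E).symm x ∈ I.ideal E hE})).comap (upEquiv Y E').toRingHom
    have h : I.ideal E' hE' ≤ J := (hI g hE hE').trans (Ideal.map_le_iff_le_comap.2 fun a ha =>
      Ideal.subset_span ⟨upEquiv Y E a, (congrArg (· ∈ I.ideal E hE) ((upEquiv Y E).symm_apply_apply a)).mpr ha,
        rh_upEquiv g a⟩)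
    have h2 := h hy
    rw [Ideal.mem_comap] at h2
    exact (congrArg (· ∈ _) ((upEquiv Y E').apply_symm_apply _)).mp h2

/-- The ideal family of a submodule of the functions. -/
def ofSub {Y : AlgSp.Sp S} (A : AffSub (AlgSp.unitModEt Y)) : AlgSp.IdealEt Y where
  ideal E hE := (show Ideal ((AlgSp.OEt Y).obj.obj (op E)) from A.N E hE).comap (upEquiv Y E).toRingHom
  map_le {E E'} g hE hE' := Ideal.map_le_iff_le_comap.2 fun a ha => A.mem_res g hE hE' _ ha

theorem ofSub_qcoh {Y : AlgSp.Sp S} (A : AffSub (AlgSp.unitModEt Y)) : (ofSub A).IsQCoh := by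
  intro E E' g hE hE' b hb
  have h := A.gen g hE hE' hb
  suffices ∀ y : Sec (AlgSp.unitModEt Y) E', y ∈ Submodule.span ((AlgSp.OEt Y).obj.obj (op E'))
      (resS (AlgSp.unitModEt Y) g '' (A.N E hE : Set _)) →
      (upEquiv Y E').symm (show (AlgSp.OEt Y).obj.obj (op E') from y) ∈
        ((ofSub A).ideal E hE).map g.hom.left.left.appTop.hom from
    (congrArg (· ∈ _) ((upEquiv Y E').symm_apply_apply b)).mp (this _ h)
  intro y hy
  induction hy using Submodule.span_induction with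
  | mem y hy =>
    obtain ⟨x, hx, rfl⟩ := hy
    exact Ideal.mem_map_of_mem g.hom.left.left.appTop.hom
      (show upEquiv Y E ((upEquiv Y E).symm x) ∈ A.N E hE by rwa [RingEquiv.apply_symm_apply])
  | zero =>
    show (upEquiv Y E').symm 0 ∈ _
    rw [map_zero]
    exact Ideal.zero_mem _
  | add a c _ _ ha hc =>
    show (upEquiv Y E').symm (_ + _) ∈ _
    rw [map_add]
    exact Ideal.add_mem _ ha hc
  | smul r a _ ha =>
    show (upEquiv Y E').symm (r * _) ∈ _
    rw [map_mul]
    exact Ideal.mul_mem_left _ _ ha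

theorem ofSub_fg {Y : AlgSp.Sp S} (A : AffSub (AlgSp.unitModEt Y)) {E : AlgSp.EtOver Y}
    (hE : IsAffine E.obj.left.left) (h : (A.N E hE).FG) : ((ofSub A).ideal E hE).FG := by
  let K : Ideal ((AlgSp.OEt Y).obj.obj (op E)) := A.N E hE
  have hK : K.FG := h
  have e : (ofSub A).ideal E hE = K.map (upEquiv Y E).symm.toRingHom :=
    (Ideal.map_symm (upEquiv Y E)).symm
  rw [e]
  exact hK.map _

/-- Pushing a submodule of a submodule. -/
def pushSub {Y : AlgSp.Sp S} {M : AlgSp.ModEt Y} (hM : QC M) (A : AffSub M) (B : AffSub (A.toMod hM)) : AffSub M where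
  N E hE := Submodule.span _ (appS (A.ι hM) E '' (B.N E hE : Set _))
  mem_res {E E'} g hE hE' x hx := by
    induction hx using Submodule.span_induction with
    | mem x hx =>
      obtain ⟨b, hb, rfl⟩ := hx
      exact Submodule.subset_span ⟨resS (A.toMod hM) g b, B.mem_res g hE hE' b hb, appS_res _ g b⟩
    | zero =>
      rw [show res (O := (AlgSp.OEt Y).obj) M.val g 0 = 0 from map_zero (M.val.presheaf.map g.op).hom]
      exact Submodule.zero_mem _
    | add a c _ _ ha hc =>
      rw [show res (O := (AlgSp.OEt Y).obj) M.val g (a + c) = _ from map_add (M.val.presheaf.map g.op).hom a c]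
      exact Submodule.add_mem _ ha hc
    | smul r a _ ha =>
      rw [show res (O := (AlgSp.OEt Y).obj) M.val g (r • a) = _ from M.val.map_smul g.op r a]
      exact Submodule.smul_mem _ _ ha
  gen {E E'} g hE hE' := by
    refine Submodule.span_le.2 ?_
    rintro _ ⟨b, hb, rfl⟩
    have h := B.gen g hE hE' hb
    clear hb
    induction h using Submodule.span_induction with
    | mem z hz =>
      obtain ⟨a, ha, rfl⟩ := hz
      exact Submodule.subset_span ⟨appS (A.ι hM) E a, Submodule.subset_span ⟨a, ha, rfl⟩, (appS_res _ g a).symm⟩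
    | zero =>
      rw [map_zero]
      exact Submodule.zero_mem _
    | add a c _ _ ha hc =>
      rw [map_add]
      exact Submodule.add_mem _ ha hc
    | smul r a _ ha =>
      rw [map_smul]
      exact Submodule.smul_mem _ _ ha

theorem pushSub_fg {Y : AlgSp.Sp S} {M : AlgSp.ModEt Y} (hM : QC M) (A : AffSub M) (B : AffSub (A.toMod hM))
    {E : AlgSp.EtOver Y} (hE : Aff Y E) (h : (B.N E hE).FG) : ((pushSub hM A B).N E hE).FG := by
  obtain ⟨T, hT⟩ := h
  have e : (pushSub hM A B).N E hE = Submodule.span _ (appS (A.ι hM) E '' (T : Set _)) := by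
    show Submodule.span _ _ = _
    rw [Submodule.span_image, Submodule.span_image, hT, Submodule.span_eq]
  rw [e]
  exact Submodule.fg_span (T.finite_toSet.image _)

theorem pushSub_le {Y : AlgSp.Sp S} {M : AlgSp.ModEt Y} (hM : QC M) (A : AffSub M) (B : AffSub (A.toMod hM))
    {E : AlgSp.EtOver Y} (hE : Aff Y E) : (pushSub hM A B).N E hE ≤ A.N E hE :=
  Submodule.span_le.2 (by rintro _ ⟨b, -, rfl⟩; exact (A.mem_iff hM hE _).1 b.2)

/-- The family of all sections. -/
def topPSub {Y : AlgSp.Sp S} {M : AlgSp.ModEt Y} (hM : QC M) (O : Set (AlgSp.Points Y)) : PSub M (LO O) where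
  N _ _ _ := ⊤
  mem_res _ _ _ _ _ _ _ := Submodule.mem_top
  gen {E E'} g hE hE' _ _ y _ := mem_span_res hM g hE hE' (T := ⊤) (Submodule.span_univ) y

/-- The complement of a compact open is cut out by a finite type ideal. -/
theorem exists_ideal [QuasiSeparatedSpace ↥S] (hqc : AlgSp.IsQuasiCompactSp X.obj)
    (hqs : AlgSp.IsQuasiSeparatedSp X.obj) {O : Set (AlgSp.Points X.obj)} (hO : IsOpen O) (hc : IsCompact O) :
    ∃ (I : AlgSp.IdealEt X.obj), I.IsQCoh ∧
      (∀ (E : AlgSp.EtOver X.obj) (hE : IsAffine E.obj.left.left), (I.ideal E hE).FG) ∧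
      ∃ (Z : AlgSp.Space S) (i : Z ⟶ X), AlgSp.IsCutOutBy I i.hom ∧ Set.range (AlgSp.Points.map i.hom) = Oᶜ := by
  obtain ⟨Z₁, i₁, hZ₁, hci, hr, -⟩ := ASp.exists_redInduced X.property hO.isClosed_compl
  let P : AlgSp.Space S := ⟨Z₁, hZ₁⟩
  let iP : P ⟶ X := ObjectProperty.homMk i₁
  let I₁ := AlgSp.idealOfRep hci.1
  have hI₁ : I₁.IsQCoh := ASp.isQCoh_idealOfRep hci.1
    ((ASp.repWith_quasiCompact_iff hci.1).1 (ASp.repWith_mono (fun _ _ k hk => by
      haveI : IsClosedImmersion k := hk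
      exact (inferInstance : QuasiCompact k)) hci))
  have hcut : AlgSp.IsCutOutBy I₁ iP.hom := ⟨hci, rfl⟩
  have hu : QC (AlgSp.unitModEt X.obj) := bc_unit (AlgSp.OEt X.obj) (Aff X.obj)
  let A := idealSub I₁ hI₁
  have hM : QC (A.toMod hu) := A.qc hu
  have htop : ∀ (E : AlgSp.EtOver X.obj) (hE : IsAffine E.obj.left.left), LO O E → I₁.ideal E hE = ⊤ := by
    intro E hE hL
    haveI := hE
    refine eq_top_of_not_le_prime fun w hw => ?_
    have h := (mem_range_iff_ideal_le hcut E hE w).2 hw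
    rw [show Set.range (AlgSp.Points.map iP.hom) = Oᶜ from hr] at h
    exact h (hL w)
  let one' : ∀ E hE (hL : LO O E), Sec (A.toMod hu) E := fun E hE hL =>
    ⟨(show Sec (AlgSp.unitModEt X.obj) E from (1 : (AlgSp.OEt X.obj).obj.obj (op E))),
      (A.mem_iff hu hE _).2 (show _ ∈ I₁.ideal E hE by rw [htop E hE hL]; exact Submodule.mem_top)⟩
  have hD : (topPSub hM O).FT := by
    intro E hE hL
    refine ⟨{one' E hE hL}, ?_⟩
    rw [Finset.coe_singleton]
    refine eq_top_iff.2 fun x _ => Submodule.mem_span_singleton.2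
      ⟨(show (AlgSp.OEt X.obj).obj.obj (op E) from x.1), Subtype.ext ?_⟩
    show (show (AlgSp.OEt X.obj).obj.obj (op E) from x.1) * 1 = x.1
    exact mul_one _
  obtain ⟨B, hB, hBO, -⟩ := exists_extension X hqc hqs hM hO hc (topPSub hM O) hD [] (by simp)
  let C := pushSub hu A B
  have hJ : (ofSub C).IsQCoh := ofSub_qcoh C
  have hone : ∀ (E : AlgSp.EtOver X.obj) (hE : IsAffine E.obj.left.left), LO O E →
      (1 : Γ(E.obj.left.left, ⊤)) ∈ (ofSub C).ideal E hE := by
    intro E hE hL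
    show upEquiv X.obj E 1 ∈ C.N E hE
    rw [map_one]
    exact Submodule.subset_span ⟨one' E hE hL, (hBO E hE hL).symm ▸ Submodule.mem_top, rfl⟩
  obtain ⟨Z, hZ, i, hi⟩ := ASp.exists_cutOut X.property hJ
  refine ⟨ofSub C, hJ, fun E hE => ofSub_fg C hE (pushSub_fg hu A B hE (hB E hE)), ⟨Z, hZ⟩,
    ObjectProperty.homMk i, hi, ?_⟩
  obtain ⟨V, p, hp, hps⟩ := X.property.atlas
  ext x
  obtain ⟨v, rfl⟩ := ASp.surjective_ofPt hps x
  obtain ⟨W, hW, hvW, -⟩ := exists_isAffineOpen_mem_and_subset (x := v) (U := (⊤ : V.left.Opens)) (by simp)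
  let E : AlgSp.EtOver X.obj := ASp.openEt hp W
  have hE : IsAffine E.obj.left.left := hW
  let w : E.obj.left.left := ⟨v, hvW⟩
  have hpt : AlgSp.Points.ofPt E.obj.hom w = AlgSp.Points.ofPt p v := ASp.ofPt_yon_map_comp (ASp.openInc W) p w
  rw [← hpt]
  refine (mem_range_iff_ideal_le (Z := ⟨Z, hZ⟩) (i := ObjectProperty.homMk i) hi E hE w).trans ?_
  constructor
  · intro hle hmem
    obtain ⟨_, ⟨W', hW', rfl⟩, hwW', hW'O⟩ := E.obj.left.left.isBasis_affineOpens.exists_subset_of_mem_open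
      (show w ∈ AlgSp.Points.ofPt E.obj.hom ⁻¹' O from hmem) (hO.preimage (AlgSp.Points.continuous_ofPt _))
    let E' : AlgSp.EtOver X.obj := ASp.openEt E.property W'
    have hE' : IsAffine E'.obj.left.left := hW'
    let g : E' ⟶ E := AlgSp.EtOver.homMk (ASp.openInc W') rfl
    have hL : LO O E' := fun e => by
      have : AlgSp.Points.ofPt E'.obj.hom e = AlgSp.Points.ofPt E.obj.hom e.1 :=
        ASp.ofPt_yon_map_comp (ASp.openInc W') E.obj.hom e
      rw [this]
      exact hW'O e.2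
    have h1 : (1 : Γ(E'.obj.left.left, ⊤)) ∈
        ((ofSub C).ideal E hE).map g.hom.left.left.appTop.hom := hJ g hE hE' (hone E' hE' hL)
    have h2 : ((ofSub C).ideal E hE).map g.hom.left.left.appTop.hom ≤
        AlgSp.primeAtPt E'.obj.left.left ⟨w, hwW'⟩ :=
      Ideal.map_le_iff_le_comap.2 fun a ha => (prime_comap g.hom.left.left ⟨w, hwW'⟩ a).2 (hle ha)
    exact (AlgSp.isPrime_primeAtPt _ _).ne_top ((Ideal.eq_top_iff_one _).2 (h2 h1))
  · intro hn a ha
    have h0 := (mem_range_iff_ideal_le hcut E hE w).1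
      (show _ ∈ Set.range (AlgSp.Points.map iP.hom) from hr.symm ▸ hn)
    refine h0 ?_
    have := pushSub_le hu A B hE ha
    exact (congrArg (· ∈ I₁.ideal E hE) ((upEquiv X.obj E).symm_apply_apply a)).mp this

end Groth.Agent.AlgSpFT

end
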