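import Groth.Agent.AlgSpFT.Geom
import Groth.Agent.AlgSpFT.Span

/-! Extending finite type submodules across an elementary distinguished square. -/

set_option autoImplicit false
set_option linter.style.haveILetI false
set_option linter.unusedSectionVars false
set_option backward.isDefEq.respectTransparency false
set_option backward.isDefEq.respectTransparency.types false
set_option maxHeartbeats 800000

universe u

open CategoryTheory Limits AlgebraicGeometry Opposite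
open Groth.Agent.AlgSpQC

noncomputable section

namespace Groth.Agent.AlgSpFT

variable {S : Scheme.{u}} {X : AlgSp.Sp S} {M : AlgSp.ModEt X}

/-- Finite type families. -/
def PSub.FT {L : AlgSp.EtOver X → Prop} (D : PSub M L) : Prop :=
  ∀ E hE hL, (D.N E hE hL).FG

theorem exists_fg_gen (hM : QC M) {E : AlgSp.EtOver X} (hE : Aff X E) {n : ℕ} {Z : Fin n → AlgSp.EtOver X}
    (f : ∀ i, Z i ⟶ E) (hZ : ∀ i, Aff X (Z i))
    (hs : ∀ w : E.obj.left.left, ∃ (i : Fin n) (v : (Z i).obj.left.left), (f i).hom.left.left v = w)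
    (P : Submodule ((AlgSp.OEt X).obj.obj (op E)) (Sec M E))
    (N : ∀ i, Submodule ((AlgSp.OEt X).obj.obj (op (Z i))) (Sec M (Z i))) (hN : ∀ i, (N i).FG)
    (h1 : ∀ i, ∀ x ∈ P, rs M (f i) x ∈ N i) (h2 : ∀ i, N i ≤ sp M (f i) (P : Set (Sec M E))) : P.FG := by
  classical
  choose F hF hNF using fun i => exists_finset_of_fg_le (f i) (hN i) (h2 i)
  refine ⟨Finset.univ.biUnion F, le_antisymm (Submodule.span_le.2 fun x hx => ?_) fun x hx => ?_⟩
  · obtain ⟨i, -, hi⟩ := Finset.mem_biUnion.1 hx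
    exact hF i x hi
  · refine mem_of_span_cover hM hE f hZ hs _ x fun i => ?_
    refine Submodule.span_mono (Set.image_mono ?_) (hNF i (h1 i x hx))
    exact fun y hy => Submodule.subset_span (Finset.mem_biUnion.2 ⟨i, Finset.mem_univ _, hy⟩)

section Chart

variable {O : Set (AlgSp.Points X)} (T : AlgSp.EtOver X) (D : PSub M (LO O)) (G : Set (Sec M T))

/-- Objects over the open or over the chart. -/
def L1 (O : Set (AlgSp.Points X)) (T : AlgSp.EtOver X) (Z : AlgSp.EtOver X) : Prop :=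
  LO O Z ∨ Nonempty (Z ⟶ T)

theorem L1_down {A B : AlgSp.EtOver X} (g : B ⟶ A) (h : L1 O T A) : L1 O T B :=
  h.imp (LO_down O g) fun ⟨k⟩ => ⟨g ≫ k⟩

theorem gen_chart (hM : QC M) (hT : Aff X T) {n : ℕ} {Z : Fin n → AlgSp.EtOver X} (f : ∀ i, Z i ⟶ T)
    (hZ : ∀ i, Aff X (Z i)) (hLZ : ∀ i, LO O (Z i))
    (hs : ∀ (W : AlgSp.EtOver X) (k : W ⟶ T), Aff X W → LO O W → ∀ w : W.obj.left.left,
      ∃ (i : Fin n) (z : (Z i).obj.left.left), (f i).hom.left.left z = k.hom.left.left w)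
    (hG : ∀ i, D.N (Z i) (hZ i) (hLZ i) ≤ sp M (f i) G)
    {W : AlgSp.EtOver X} (hW : Aff X W) (hLW : LO O W) (l : W ⟶ T) : D.N W hW hLW ≤ sp M l G := by
  choose V h h' hV e hpb hpo using fun i => (affSite X).exists_fibre l (f i) hT hW (hZ i)
  intro x hx
  refine mem_of_span_cover hM hW h hV (fun w => ?_) _ x fun i => ?_
  · obtain ⟨i, z, hz⟩ := hs W l hW hLW w
    obtain ⟨v, hv, -⟩ := Scheme.exists_preimage_of_isPullback
      ((hpb i).map (AlgSp.EtOver.toScheme X)) w z hz.symm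
    exact ⟨i, v, hv⟩
  · refine sp_comp_le l (h i) G ?_
    rw [e i]
    have hx' := D.mem_res (h i) hW (hV i) hLW (LO_down O (h i) hLW) x hx
    exact Submodule.span_le.2 (by
      rintro _ ⟨y, hy, rfl⟩
      exact sp_res (f i) (h' i) (hG i hy)) (D.gen (h' i) (hZ i) (hV i) (hLZ i) (LO_down O (h i) hLW) hx')

theorem sp_le_N (hGD : ∀ m ∈ G, m ∈ D.ext T) {W : AlgSp.EtOver X} (hW : Aff X W) (hLW : LO O W) (l : W ⟶ T) :
    sp M l G ≤ D.N W hW hLW :=
  sp_le l fun m hm => hGD m hm W l hW hLW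

variable (hM : QC M) (hGD : ∀ m ∈ G, m ∈ D.ext T)
  (hgen : ∀ (W : AlgSp.EtOver X) (hW : Aff X W) (hLW : LO O W) (l : W ⟶ T), D.N W hW hLW ≤ sp M l G)
  (heq : ∀ (Z : AlgSp.EtOver X), Aff X Z → ∀ (k₁ k₂ : Z ⟶ T),
    ∃ (n : ℕ) (V : Fin n → AlgSp.EtOver X) (f : ∀ i, V i ⟶ Z), (∀ i, Aff X (V i)) ∧
      (∀ i, LO O (V i) ∨ f i ≫ k₁ = f i ≫ k₂) ∧
      ∀ e, ∃ (i : Fin n) (v : (V i).obj.left.left), (f i).hom.left.left v = e)

include hM hGD hgen heq in
theorem sp_indep {Z : AlgSp.EtOver X} (hZ : Aff X Z) (k₁ k₂ : Z ⟶ T) : sp M k₁ G ≤ sp M k₂ G := by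
  obtain ⟨n, V, f, hV, hP, hs⟩ := heq Z hZ k₁ k₂
  intro x hx
  refine mem_of_span_cover hM hZ f hV hs _ x fun i => sp_comp_le k₂ (f i) G ?_
  have h1 := sp_res k₁ (f i) hx
  rcases hP i with hL | he
  · exact hgen _ (hV i) hL _ (sp_le_N T D G hGD (hV i) hL _ h1)
  · rwa [← he]

open Classical in
/-- The family enlarged by a chart. -/
def chartN (E : AlgSp.EtOver X) (hE : Aff X E) (hL : L1 O T E) :
    Submodule ((AlgSp.OEt X).obj.obj (op E)) (Sec M E) :=
  if h : LO O E then D.N E hE h else sp M (hL.resolve_left h).some G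

include hM hGD hgen heq in
theorem chartN_eq {E : AlgSp.EtOver X} (hE : Aff X E) (hL : L1 O T E) (l : E ⟶ T) :
    chartN T D G E hE hL = sp M l G := by
  classical
  unfold chartN
  split
  next h => exact le_antisymm (hgen E hE h l) (sp_le_N T D G hGD hE h l)
  next h => exact le_antisymm (sp_indep T D G hM hGD hgen heq hE _ l) (sp_indep T D G hM hGD hgen heq hE l _)

theorem chartN_of_LO {E : AlgSp.EtOver X} (hE : Aff X E) (hL : L1 O T E) (h : LO O E) :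
    chartN T D G E hE hL = D.N E hE h := by
  classical
  unfold chartN
  rw [dif_pos h]

include hM hGD hgen heq in
/-- The family on objects over the open or the chart. -/
def chartPSub : PSub M (L1 O T) where
  N := chartN T D G
  mem_res {E E'} g hE hE' hL hL' x hx := by
    by_cases h : LO O E
    · rw [chartN_of_LO T D G hE hL h] at hx
      rw [chartN_of_LO T D G hE' hL' (LO_down O g h)]
      exact D.mem_res g hE hE' h _ x hx
    · obtain ⟨l⟩ := hL.resolve_left h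
      rw [chartN_eq T D G hM hGD hgen heq hE hL l] at hx
      rw [chartN_eq T D G hM hGD hgen heq hE' hL' (g ≫ l)]
      exact sp_res l g hx
  gen {E E'} g hE hE' hL hL' := by
    by_cases h : LO O E
    · rw [chartN_of_LO T D G hE hL h, chartN_of_LO T D G hE' hL' (LO_down O g h)]
      exact D.gen g hE hE' h _
    · obtain ⟨l⟩ := hL.resolve_left h
      rw [chartN_eq T D G hM hGD hgen heq hE hL l, chartN_eq T D G hM hGD hgen heq hE' hL' (g ≫ l)]
      exact sp_comp_le l g G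

end Chart

section Qcqs

variable [QuasiSeparatedSpace ↥S] {Xs : AlgSp.Space S} {N : AlgSp.ModEt Xs.obj}

/-- A prescribed section. -/
abbrev Req (N : AlgSp.ModEt Xs.obj) : Type (u + 1) :=
  Σ E : {E : AlgSp.EtOver Xs.obj // Aff Xs.obj E}, Sec N E.1

/-- The property carried along the enlargement. -/
def Ext₀ {O₀ : Set (AlgSp.Points Xs.obj)} (D₀ : PSub N (LO O₀)) (O : Set (AlgSp.Points Xs.obj)) : Prop :=
  ∀ R : List (Req N), (∀ r ∈ R, r.2 ∈ D₀.ext r.1.1) →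
    ∃ D : PSub N (LO O), D.FT ∧
      (∀ E hE (hL₀ : LO O₀ E) (hL : LO O E), D.N E hE hL = D₀.N E hE hL₀) ∧ ∀ r ∈ R, r.2 ∈ D.ext r.1.1

theorem ext₀_step (hqs : AlgSp.IsQuasiSeparatedSp Xs.obj) (hN : QC N)
    {O₀ : Set (AlgSp.Points Xs.obj)} (hO₀ : IsOpen O₀) (hc₀ : IsCompact O₀) (D₀ : PSub N (LO O₀))
    {O O' : Set (AlgSp.Points Xs.obj)} (hO : IsOpen O) (hOc : IsCompact O) (h0O : O₀ ⊆ O) (hO' : IsOpen O')
    (hOc' : IsCompact O') (T : AlgSp.EtOver Xs.obj) (hT : Aff Xs.obj T)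
    (hu : O' = O ∪ Set.range (AlgSp.Points.ofPt T.obj.hom))
    (heq : ∀ (Z : AlgSp.EtOver Xs.obj), Aff Xs.obj Z → ∀ (k₁ k₂ : Z ⟶ T),
      ∃ (n : ℕ) (V : Fin n → AlgSp.EtOver Xs.obj) (f : ∀ i, V i ⟶ Z), (∀ i, Aff Xs.obj (V i)) ∧
        (∀ i, LO O (V i) ∨ f i ≫ k₁ = f i ≫ k₂) ∧
        ∀ e, ∃ (i : Fin n) (v : (V i).obj.left.left), (f i).hom.left.left v = e)
    (hP : Ext₀ D₀ O) : Ext₀ D₀ O' := by
  classical
  intro R hR
  -- elements needed on the chart
  have hsplit : ∀ r ∈ R, ∃ (n : ℕ) (Z : Fin n → AlgSp.EtOver Xs.obj) (f : ∀ i, Z i ⟶ r.1.1) (F : Finset (Sec N T)),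
      (∀ i, Aff Xs.obj (Z i)) ∧ (∀ i, LO O' (Z i)) ∧
      (∀ (W : AlgSp.EtOver Xs.obj) (k : W ⟶ r.1.1), Aff Xs.obj W → LO O' W → ∀ w : W.obj.left.left,
        ∃ (i : Fin n) (z : (Z i).obj.left.left), (f i).hom.left.left z = k.hom.left.left w) ∧
      (∀ m ∈ F, m ∈ D₀.ext T) ∧
      ∀ i, ∃ (m : ℕ) (V : Fin m → AlgSp.EtOver Xs.obj) (v : ∀ j, V j ⟶ Z i), (∀ j, Aff Xs.obj (V j)) ∧
        (∀ e, ∃ (j : Fin m) (y : (V j).obj.left.left), (v j).hom.left.left y = e) ∧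
        ∀ j, LO O (V j) ∨ ∃ l : V j ⟶ T, rs N (v j ≫ f i) r.2 ∈ sp N l (F : Set (Sec N T)) := by
    intro r hr
    obtain ⟨n, Z, f, hZ, hLZ, hs⟩ := hasLCover_LO hqs r.1.2 hO' hOc'
    choose m V v hV hP' hsV using fun i => cover_step O hO T (hZ i) (fun e => hu ▸ hLZ i e)
    have hF : ∀ i j, ∃ F : Finset (Sec N T), (∀ x ∈ F, x ∈ D₀.ext T) ∧
        (LO O (V i j) ∨ ∃ l : V i j ⟶ T, rs N (v i j ≫ f i) r.2 ∈ sp N l (F : Set (Sec N T))) := by
      intro i j
      rcases hP' i j with h | ⟨⟨l⟩⟩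
      · exact ⟨∅, by simp, Or.inl h⟩
      · have hx : rs N (v i j ≫ f i) r.2 ∈ sp N l (D₀.ext T : Set (Sec N T)) :=
          D₀.ext_gen (LO_down O₀) hN l hT (hV i j) (hasLCover_LO hqs hT hO₀ hc₀) (D₀.ext_res _ (hR r hr))
        obtain ⟨F, h1, h2⟩ := exists_finset_of_fg_le l
          (Submodule.fg_span (Set.finite_singleton _)) ((Submodule.span_singleton_le_iff_mem _ _).2 hx)
        exact ⟨F, h1, Or.inr ⟨l, h2 (Submodule.mem_span_singleton_self _)⟩⟩
    choose F hF1 hF2 using hF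
    refine ⟨n, Z, f, Finset.univ.biUnion fun i => Finset.univ.biUnion (F i), hZ, hLZ, hs, fun x hx => ?_,
      fun i => ⟨m i, V i, v i, hV i, hsV i, fun j => (hF2 i j).imp_right ?_⟩⟩
    · simp only [Finset.mem_biUnion, Finset.mem_univ, true_and] at hx
      obtain ⟨i, j, h⟩ := hx
      exact hF1 i j x h
    · rintro ⟨l, hl⟩
      refine ⟨l, Submodule.span_mono (Set.image_mono fun x hx => ?_) hl⟩
      simp only [Finset.coe_biUnion, Set.mem_iUnion, Finset.mem_coe, Finset.mem_univ]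
      exact ⟨i, trivial, j, trivial, hx⟩
  choose nR ZR fR FR hZR hLR hsR hFR hVR using hsplit
  let G₀ : List (Req N) :=
    (R.attach.flatMap fun r => (FR r.1 r.2).toList).map fun m => ⟨⟨T, hT⟩, m⟩
  obtain ⟨D, hFT, hag, hmem⟩ := hP (R ++ G₀) (fun r hr => by
    rcases List.mem_append.1 hr with h | h
    · exact hR r h
    · obtain ⟨m, hm, rfl⟩ := List.mem_map.1 h
      obtain ⟨r, -, hm⟩ := List.mem_flatMap.1 hm
      exact hFR r.1 r.2 m (Finset.mem_toList.1 hm))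
  -- generators over the overlap
  obtain ⟨n, Z, f, hZ, hLZ, hs⟩ := hasLCover_LO hqs hT hO hOc
  have hgenZ : ∀ i, ∃ F : Finset (Sec N T), (∀ x ∈ F, x ∈ D.ext T) ∧
      D.N (Z i) (hZ i) (hLZ i) ≤ sp N (f i) (F : Set (Sec N T)) := fun i => by
    refine exists_finset_of_fg_le (f i) (hFT _ _ _) ?_
    rw [← D.ext_eq (LO_down O) (hZ i) (hLZ i)]
    exact D.ext_gen (LO_down O) hN (f i) hT (hZ i) ⟨n, Z, f, hZ, hLZ, hs⟩
  choose FZ hFZ hFZgen using hgenZ
  let G : Finset (Sec N T) :=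
    Finset.univ.biUnion FZ ∪ (R.attach.flatMap fun r => (FR r.1 r.2).toList).toFinset
  have hGD : ∀ m ∈ (G : Set (Sec N T)), m ∈ D.ext T := by
    intro m hm
    rcases Finset.mem_union.1 hm with h | h
    · obtain ⟨i, -, hi⟩ := Finset.mem_biUnion.1 h
      exact hFZ i m hi
    · exact hmem ⟨⟨T, hT⟩, m⟩ (List.mem_append.2 (Or.inr (List.mem_map.2 ⟨m, List.mem_toFinset.1 h, rfl⟩)))
  have hgen : ∀ (W : AlgSp.EtOver Xs.obj) (hW : Aff Xs.obj W) (hLW : LO O W) (l : W ⟶ T),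
      D.N W hW hLW ≤ sp N l (G : Set (Sec N T)) := fun W hW hLW l =>
    gen_chart T D (G : Set (Sec N T)) hN hT f hZ hLZ hs (fun i => (hFZgen i).trans (Submodule.span_mono
      (Set.image_mono fun x hx => Finset.mem_union_left _ (Finset.mem_biUnion.2 ⟨i, Finset.mem_univ _, hx⟩)))) hW hLW l
  let D₁ := chartPSub T D (G : Set (Sec N T)) hN hGD hgen heq
  have hcov : ∀ E, Aff Xs.obj E → LO O' E → ∃ (n : ℕ) (Z : Fin n → AlgSp.EtOver Xs.obj) (f : ∀ i, Z i ⟶ E),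
      (∀ i, Aff Xs.obj (Z i)) ∧ (∀ i, L1 O T (Z i)) ∧
      ∀ e, ∃ (i : Fin n) (z : (Z i).obj.left.left), (f i).hom.left.left z = e :=
    fun E hE hL => cover_step O hO T hE (fun e => hu ▸ hL e)
  have hLc : ∀ E, Aff Xs.obj E → LO O' E → HasLCover (L1 O T) E := fun E hE hL => by
    obtain ⟨n, Z, f, hZ, hLZ, hs⟩ := hcov E hE hL
    exact ⟨n, Z, f, hZ, hLZ, fun W k _ _ w => hs _⟩
  let D' : PSub N (LO O') :=
    { N := fun E _ _ => D₁.ext E
      mem_res := fun g _ _ _ _ _ hx => D₁.ext_res g hx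
      gen := fun g hE hE' hL _ => D₁.ext_gen (L1_down T) hN g hE hE' (hLc _ hE hL) }
  refine ⟨D', fun E hE hL => ?_, fun E hE hL₀ hL => ?_, fun r hr => ?_⟩
  · obtain ⟨k, W, w, hW, hLW, hsW⟩ := hcov E hE hL
    refine exists_fg_gen hN hE w hW hsW (D₁.ext E) (fun i => D₁.N (W i) (hW i) (hLW i)) (fun i => ?_)
      (fun i x hx => hx (W i) (w i) (hW i) (hLW i)) fun i => ?_
    · show (chartN T D (G : Set (Sec N T)) (W i) (hW i) (hLW i)).FG
      rcases hLW i with h | ⟨⟨l⟩⟩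
      · rw [chartN_of_LO T D _ (hW i) _ h]
        exact hFT _ _ _
      · rw [chartN_eq T D _ hN hGD hgen heq (hW i) _ l]
        exact Submodule.fg_span (G.finite_toSet.image _)
    · rw [← D₁.ext_eq (L1_down T) (hW i) (hLW i)]
      exact D₁.ext_gen (L1_down T) hN (w i) hE (hW i) (hLc E hE hL)
  · have hLO : LO O E := fun e => h0O (hL₀ e)
    show D₁.ext E = _
    rw [D₁.ext_eq (L1_down T) hE (Or.inl hLO)]
    exact (chartN_of_LO T D _ hE (Or.inl hLO) hLO).trans (hag E hE hL₀ hLO)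
  · refine D'.mem_ext_of_cover (LO_down O') hN r.1.2 (fR r hr) (hZR r hr) (hLR r hr) (hsR r hr) r.2 fun i => ?_
    obtain ⟨m, V, v, hV, hsV, hl⟩ := hVR r hr i
    have hL1 : ∀ j, L1 O T (V j) := fun j => (hl j).imp_right fun ⟨l, _⟩ => ⟨l⟩
    refine D₁.mem_ext_of_cover (L1_down T) hN (hZR r hr i) v hV hL1 (fun W k _ _ w => hsV _) _ fun j => ?_
    show rs N (v j) (rs N (fR r hr i) r.2) ∈ chartN T D (G : Set (Sec N T)) (V j) (hV j) (hL1 j)
    rw [← rs_comp]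
    rcases hl j with h | ⟨l, hl'⟩
    · rw [chartN_of_LO T D _ (hV j) _ h]
      exact hmem r (List.mem_append.2 (Or.inl hr)) (V j) _ (hV j) h
    · rw [chartN_eq T D _ hN hGD hgen heq (hV j) _ l]
      refine Submodule.span_mono (Set.image_mono fun x hx => Finset.mem_union_right _ ?_) hl'
      exact List.mem_toFinset.2 (List.mem_flatMap.2 ⟨⟨r, hr⟩, List.mem_attach _ _, Finset.mem_toList.2 hx⟩)

end Qcqs

end Groth.Agent.AlgSpFT

end
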